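import Cfsg.Agent.H22.CN.Sz.Module
import Cfsg.Agent.H64.ThreePrimes
import Cfsg.Agent.H35.Subnormal
import Cfsg.Agent.H79.SL2FpfGroup

/-!
Chief sections of a group inside a normal 2-subgroup on whose chief factors all elements of odd order
act without fixed points.
-/

set_option autoImplicit false
set_option linter.unusedSectionVars false
set_option linter.style.haveILetI false

namespace H22.CN.Sz

open Subgroup Matrix
open scoped IsMulCommutative

variable {G : Type*} [Group G]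

/-- All non-trivial elements of odd order act without fixed points on `Q`. -/
def OddFpf (Q : Subgroup G) : Prop :=
  ∀ g : G, g ≠ 1 → ¬ 2 ∣ orderOf g → ∀ q ∈ Q, g * q * g⁻¹ = q → q = 1

/-- The action of a quotient on a normal abelian subgroup centralised by the kernel. -/
noncomputable def sectAct {X : Type*} [Group X] (Q A : Subgroup G) [Q.Normal] [A.Normal]
    [IsMulCommutative A] (hQA : ∀ q ∈ Q, ∀ a ∈ A, q * a = a * q) (e : G ⧸ Q ≃* X) :
    X →* AddMonoid.End (Additive A) :=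
  (QuotientGroup.lift Q (H79.SL2Fpf.conjEnd A) (fun q hq => by
    refine AddMonoidHom.ext fun a => Additive.toMul.injective (Subtype.ext ?_)
    show q * ((Additive.toMul a : A) : G) * q⁻¹ = _
    rw [hQA q hq _ (Additive.toMul a).2, mul_inv_cancel_right]
    rfl)).comp e.symm.toMonoidHom

theorem sectAct_apply {X : Type*} [Group X] (Q A : Subgroup G) [Q.Normal] [A.Normal]
    [IsMulCommutative A] (hQA : ∀ q ∈ Q, ∀ a ∈ A, q * a = a * q) (e : G ⧸ Q ≃* X) (g : G)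
    (a : Additive A) :
    ((Additive.toMul (sectAct Q A hQA e (e g) a) : A) : G) =
      g * ((Additive.toMul a : A) : G) * g⁻¹ := by
  have h : e.symm.toMonoidHom (e (g : G ⧸ Q)) = (g : G ⧸ Q) := e.symm_apply_apply _
  rw [sectAct, MonoidHom.comp_apply, h]
  rfl

theorem sectAct_fpf [Finite G] {X : Type*} [Group X] (Q A : Subgroup G) [Q.Normal] [A.Normal]
    [IsMulCommutative A] (hQA : ∀ q ∈ Q, ∀ a ∈ A, q * a = a * q) (hAQ : A ≤ Q) (e : G ⧸ Q ≃* X)
    (hfpf : OddFpf Q) : Fpf (sectAct Q A hQA e) := by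
  intro x hx hodd v hv
  obtain ⟨g₀, hg₀⟩ := QuotientGroup.mk_surjective (e.symm x)
  have hex : e (g₀ : G ⧸ Q) = x := by rw [hg₀, e.apply_symm_apply]
  obtain ⟨g, hg, ho⟩ := H64.exists_orderOf_map (QuotientGroup.mk' Q) g₀ rfl
  have hoX : orderOf (g₀ : G ⧸ Q) = orderOf x := by rw [hg₀, MulEquiv.orderOf_eq]
  have ho' : orderOf g = orderOf x := ho.trans hoX
  -- `g` generates the same subgroup modulo `Q`
  obtain ⟨j, rfl⟩ := Subgroup.mem_zpowers_iff.1 hg
  have hfix : ∀ k : ℤ, sectAct Q A hQA e (x ^ k) v = v := by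
    intro k
    obtain ⟨n, hn⟩ : ∃ n : ℕ, x ^ n = x ^ k := by
      haveI : Finite X := Finite.of_equiv _ e.toEquiv
      exact (mem_powers_iff_mem_zpowers.2 ⟨k, rfl⟩ : x ^ k ∈ Submonoid.powers x)
    rw [← hn]
    clear hn
    induction n with
    | zero => rw [pow_zero, act_id]
    | succ n ih => rw [pow_succ, act_comp, hv, ih]
  have h := hfix j
  rw [← hex, ← map_zpow, ← QuotientGroup.mk_zpow] at h
  have h' := congrArg (fun w => ((Additive.toMul w : A) : G)) h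
  simp only [sectAct_apply] at h'
  refine Additive.toMul.injective (Subtype.ext ?_)
  exact hfpf (g₀ ^ j) (fun h1 => hx (by
    rw [h1, orderOf_one] at ho'; exact orderOf_eq_one_iff.1 ho'.symm)) (ho' ▸ hodd) _
    (hAQ (Additive.toMul v).2) h'

theorem oddFpf_map [Finite G] (Q L : Subgroup G) [L.Normal] (hLQ : L ≤ Q)
    (hfpf : OddFpf Q) : OddFpf (Q.map (QuotientGroup.mk' L)) := by
  haveI : Fact (Nat.Prime 2) := ⟨Nat.prime_two⟩
  rintro y hy1 hodd _ ⟨q, hq, rfl⟩ hfix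
  obtain ⟨g₀, rfl⟩ := QuotientGroup.mk_surjective y
  obtain ⟨g, hg, ho⟩ := H64.exists_orderOf_map (QuotientGroup.mk' L) g₀ rfl
  obtain ⟨j, rfl⟩ := Subgroup.mem_zpowers_iff.1 hg
  set g := g₀ ^ j with hgdef
  have ho' : orderOf g = orderOf (g₀ : G ⧸ L) := ho
  have hg1 : g ≠ 1 := fun h => hy1 (by
    rw [h, orderOf_one] at ho'; exact orderOf_eq_one_iff.1 ho'.symm)
  have hgfix : (QuotientGroup.mk' L) (g * q * g⁻¹) = QuotientGroup.mk' L q := by
    have hc : Commute (g₀ : G ⧸ L) (QuotientGroup.mk' L q) := mul_inv_eq_iff_eq_mul.1 hfix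
    have hc' := hc.zpow_left j
    rw [map_mul, map_mul, map_inv]
    exact mul_inv_eq_iff_eq_mul.2 (by rw [hgdef, map_zpow]; exact hc'.eq)
  let d : L → L := fun m => ⟨(m : G)⁻¹ * (g * m * g⁻¹),
    mul_mem (inv_mem m.2) ((inferInstance : L.Normal).conj_mem m m.2 g)⟩
  have hd : Function.Injective d := by
    intro a b h
    have h1 : (a : G)⁻¹ * (g * a * g⁻¹) = (b : G)⁻¹ * (g * b * g⁻¹) := congrArg Subtype.val h
    have h2 : g * ((b : G) * (a : G)⁻¹)⁻¹ * g⁻¹ = ((b : G) * (a : G)⁻¹)⁻¹ := by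
      calc g * ((b : G) * (a : G)⁻¹)⁻¹ * g⁻¹ = (g * a * g⁻¹) * (g * b * g⁻¹)⁻¹ := by group
        _ = (a * ((a : G)⁻¹ * (g * a * g⁻¹))) * (g * b * g⁻¹)⁻¹ := by group
        _ = (a * ((b : G)⁻¹ * (g * b * g⁻¹))) * (g * b * g⁻¹)⁻¹ := by rw [h1]
        _ = ((b : G) * (a : G)⁻¹)⁻¹ := by group
    have h3 := hfpf g hg1 (ho' ▸ hodd) _ (hLQ (inv_mem (mul_mem b.2 (inv_mem a.2)))) h2
    exact Subtype.ext (mul_inv_eq_one.1 (inv_eq_one.1 h3)).symm
  have hm : q⁻¹ * (g * q * g⁻¹) ∈ L := QuotientGroup.eq.1 hgfix.symm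
  obtain ⟨m, hme⟩ := Finite.surjective_of_injective hd ⟨_, hm⟩
  have hme' : (m : G)⁻¹ * (g * m * g⁻¹) = q⁻¹ * (g * q * g⁻¹) := congrArg Subtype.val hme
  have h0 : q * (m : G)⁻¹ = 1 := hfpf g hg1 (ho' ▸ hodd) _ (mul_mem hq (inv_mem (hLQ m.2))) (by
    calc g * (q * (m : G)⁻¹) * g⁻¹ = q * (q⁻¹ * (g * q * g⁻¹)) * (g * m * g⁻¹)⁻¹ := by group
      _ = q * ((m : G)⁻¹ * (g * m * g⁻¹)) * (g * m * g⁻¹)⁻¹ := by rw [hme']
      _ = q * (m : G)⁻¹ := by group)
  exact (QuotientGroup.eq_one_iff q).2 (mul_inv_eq_one.1 h0 ▸ m.2)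

variable [Finite G] {F : Type*} [Field F] [Fintype F] {m : ℕ}

/-- A chief section below `Q` is a natural module. -/
theorem exists_section_natural (hm : 1 ≤ m) (hF : Fintype.card F = 2 ^ (2 * m + 1))
    (Q : Subgroup G) [hQn : Q.Normal] (hfpf : OddFpf Q)
    (e : G ⧸ Q ≃* Cfsg.Sz F m) (L U : Subgroup G) [hLn : L.Normal] [hUn : U.Normal]
    (hLU : L ≤ U) (hUQ : U ≤ Q) (hne : L ≠ U)
    (hmin : ∀ K : Subgroup G, K.Normal → L ≤ K → K ≤ U → K = L ∨ K = U)
    (hsq : ∀ u ∈ U, u * u ∈ L) (hact : ∀ q ∈ Q, ∀ u ∈ U, q * u * q⁻¹ * u⁻¹ ∈ L) :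
    ∃ π : U → (Fin 4 → F), (∀ u v, π (u * v) = π u + π v) ∧ Function.Surjective π ∧
      (∀ u : U, π u = 0 ↔ (u : G) ∈ L) ∧
      ∀ (g : G) (u : U), π ⟨g * u * g⁻¹, hUn.conj_mem u u.2 g⟩ =
        H57.szMat (e g) *ᵥ π u := by
  set p := QuotientGroup.mk' L with hp
  have hps : Function.Surjective p := QuotientGroup.mk'_surjective L
  haveI : (Q.map p).Normal := hQn.map p hps
  haveI : (U.map p).Normal := hUn.map p hps
  have hsq' : ∀ a ∈ U.map p, a * a = 1 := by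
    rintro _ ⟨u, hu, rfl⟩
    rw [← map_mul]
    exact (QuotientGroup.eq_one_iff _).2 (hsq u hu)
  have hQU : ∀ q ∈ Q.map p, ∀ a ∈ U.map p, q * a = a * q := by
    rintro _ ⟨q, hq, rfl⟩ _ ⟨u, hu, rfl⟩
    have h := (QuotientGroup.eq_one_iff _).2 (hact q hq u hu)
    rw [← QuotientGroup.mk'_apply L, map_mul, map_mul, map_mul, map_inv, map_inv,
      mul_inv_eq_one, mul_inv_eq_iff_eq_mul] at h
    exact h
  haveI : IsMulCommutative (U.map p) :=
    IsMulCommutative.of_comm fun a b => Subtype.ext (hQU a (map_mono hUQ a.2) b b.2)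
  have hLQ : L ≤ Q := hLU.trans hUQ
  let e' : (G ⧸ L) ⧸ Q.map p ≃* Cfsg.Sz F m :=
    (QuotientGroup.quotientQuotientEquivQuotient L Q hLQ).trans e
  have he' : ∀ g : G, e' (p g : G ⧸ L) = e (g : G ⧸ Q) := fun g => rfl
  set ρ := sectAct (Q.map p) (U.map p) hQU e' with hρ
  have hρa : ∀ (g : G) a, ((Additive.toMul (ρ (e (g : G ⧸ Q)) a) : U.map p) : G ⧸ L) =
      p g * ((Additive.toMul a : U.map p) : G ⧸ L) * (p g)⁻¹ := fun g a => by
    rw [← he']; exact sectAct_apply _ _ hQU e' (p g) a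
  have hf : Fpf ρ := sectAct_fpf _ _ hQU (map_mono hUQ) e'
    (oddFpf_map Q L hLQ hfpf)
  obtain ⟨u₀, hu₀, hu₀L⟩ := SetLike.exists_of_lt (lt_of_le_of_ne hLU hne)
  haveI : Nontrivial (Additive (U.map p)) := ⟨⟨Additive.ofMul ⟨p u₀, u₀, hu₀, rfl⟩, 0, fun h =>
    hu₀L ((QuotientGroup.eq_one_iff u₀).1
      (congrArg (fun a => ((Additive.toMul a : U.map p) : G ⧸ L)) h))⟩⟩
  have h2 : ∀ a : Additive (U.map p), a + a = 0 := fun a =>
    Additive.toMul.injective (Subtype.ext (hsq' _ (Additive.toMul a).2))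
  have hirr : Irr ρ := by
    intro W hW
    let K : Subgroup G :=
      { carrier := {u | ∃ w ∈ W, ((Additive.toMul w : U.map p) : G ⧸ L) = p u}
        one_mem' := ⟨0, W.zero_mem, by rw [map_one]; rfl⟩
        mul_mem' := by
          rintro a b ⟨v, hv, hva⟩ ⟨w, hw, hwb⟩
          exact ⟨v + w, W.add_mem hv hw, by rw [map_mul, ← hva, ← hwb]; rfl⟩
        inv_mem' := by
          rintro a ⟨v, hv, hva⟩
          exact ⟨-v, W.neg_mem hv, by rw [map_inv, ← hva]; rfl⟩ }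
    have hKn : K.Normal := ⟨fun u hu g => by
      obtain ⟨w, hw, hwu⟩ := hu
      refine ⟨ρ (e (g : G ⧸ Q)) w, hW _ w hw, ?_⟩
      rw [hρa, hwu, map_mul, map_mul, map_inv]⟩
    have hLK : L ≤ K := fun u hu => ⟨0, W.zero_mem, ((QuotientGroup.eq_one_iff u).2 hu).symm⟩
    have hKU : K ≤ U := fun u hu => by
      obtain ⟨w, -, hwu⟩ := hu
      obtain ⟨u', hu', he⟩ : p u ∈ U.map p := hwu ▸ (Additive.toMul w).2
      simpa using mul_mem hu' (hLU (QuotientGroup.eq.1 he))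
    rcases hmin K hKn hLK hKU with h | h
    · left
      rw [eq_bot_iff]
      intro w hw
      obtain ⟨u, hu, hwu⟩ := (Additive.toMul w).2
      have : u ∈ L := h ▸ (⟨w, hw, hwu.symm⟩ : u ∈ K)
      rw [AddSubgroup.mem_bot]
      exact Additive.toMul.injective (Subtype.ext (hwu.symm.trans ((QuotientGroup.eq_one_iff u).2 this)))
    · right
      rw [eq_top_iff]
      intro w _
      obtain ⟨u, hu, hwu⟩ := (Additive.toMul w).2
      obtain ⟨w', hw', hw'u⟩ := (h.symm ▸ hu : u ∈ K)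
      rwa [show w = w' from Additive.toMul.injective (Subtype.ext (hwu.symm.trans hw'u.symm))]
  obtain ⟨E, hE⟩ := exists_natural_iso hF hm h2 ρ hf hirr
  refine ⟨fun u => E (Additive.ofMul ⟨p u, u, u.2, rfl⟩), fun u v => ?_, fun w => ?_, fun u => ?_,
    fun g u => ?_⟩
  · rw [← map_add]
    congr 1
  · obtain ⟨u, hu, hue⟩ := (Additive.toMul (E.symm w)).2
    refine ⟨⟨u, hu⟩, ?_⟩
    rw [← E.eq_symm_apply]
    exact Additive.toMul.injective (Subtype.ext hue)
  · rw [AddEquiv.map_eq_zero_iff, ← QuotientGroup.eq_one_iff]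
    constructor
    · exact fun h => congrArg (fun a => ((Additive.toMul a : U.map p) : G ⧸ L)) h
    · exact fun h => Additive.toMul.injective (Subtype.ext h)
  · rw [← hE]
    refine congrArg E ?_
    refine Additive.toMul.injective (Subtype.ext ?_)
    rw [hρa]
    show p (g * u * g⁻¹) = p g * p u * (p g)⁻¹
    rw [map_mul, map_mul, map_inv]

end H22.CN.Sz
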