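import Cfsg.Agent.H22.CN.Sz.Module

/-!
Equivariant pairings and squarings between natural modules of a Suzuki group vanish.
-/

set_option autoImplicit false
set_option linter.unusedSectionVars false
set_option linter.unusedSimpArgs false
set_option linter.style.haveILetI false

namespace H22.CN.Sz

open Matrix H57

variable {F : Type*} [Field F] [Fintype F] [DecidableEq F] {m : ℕ} (hF : Fintype.card F = 2 ^ (2 * m + 1))

/-- A coordinate vector. -/
def sv (i : Fin 4) (x : F) : Fin 4 → F := Pi.single i x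

theorem sum_split {ι : Type*} [Fintype ι] (o : ι → ℕ) (ho : Function.Injective o)
    {A : Type*} [AddCommMonoid A] (f : ι × ι → A) :
    ∑ p, f p = ∑ p ∈ (Finset.univ.filter fun p : ι × ι => o p.1 < o p.2), f p +
      ∑ p ∈ (Finset.univ.filter fun p : ι × ι => o p.1 < o p.2), f p.swap + ∑ k, f (k, k) := by
  rw [← Finset.sum_filter_add_sum_filter_not Finset.univ (fun p : ι × ι => o p.1 < o p.2) f,
    ← Finset.sum_filter_add_sum_filter_not (Finset.univ.filter fun p : ι × ι => ¬ o p.1 < o p.2)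
      (fun p => o p.2 < o p.1) f, ← add_assoc]
  congr 1
  · congr 1
    refine Finset.sum_nbij' Prod.swap Prod.swap ?_ ?_ ?_ ?_ ?_ <;> intro p hp <;>
      simp at hp ⊢ <;> omega
  · refine Finset.sum_nbij' (fun p => p.1) (fun k => (k, k)) ?_ ?_ ?_ ?_ ?_
    · intro p _; simp
    · intro k _; simp
    · intro p hp
      simp at hp
      have : p.1 = p.2 := ho (by omega)
      ext <;> simp [this]
    · intro k _; rfl
    · intro p hp
      simp at hp
      have : p.1 = p.2 := ho (by omega)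
      show f p = f (p.1, p.1)
      congr 1
      ext <;> simp [this]

include hF

theorem tEl_sv (a b x : F) :
    szMat (tEl hF a b) *ᵥ sv 0 x = sv 0 x ∧
    szMat (tEl hF a b) *ᵥ sv 1 x = sv 0 (a * x) + sv 1 x ∧
    szMat (tEl hF a b) *ᵥ sv 2 x =
      sv 0 ((b + th m a * a) * x) + sv 1 (th m a * x) + sv 2 x ∧
    szMat (tEl hF a b) *ᵥ sv 3 x =
      sv 0 (oF m a b * x) + sv 1 (b * x) + sv 2 (a * x) + sv 3 x := by
  refine ⟨?_, ?_, ?_, ?_⟩ <;>
    (rw [szMat_tEl, tMat_mulVec]; funext i; fin_cases i <;> simp [sv])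

theorem exists_ne_zero_one (hm : 1 ≤ m) : ∃ a : F, a ≠ 0 ∧ a ≠ 1 := by
  obtain ⟨k, hk⟩ := exists_ne_one hm hF
  exact ⟨k, k.ne_zero, hk⟩

theorem sum_units_self {W : Type*} [AddCommGroup W] (h2 : ∀ w : W, w + w = 0) (w : W) :
    ∑ _k : Fˣ, w = w := by
  classical
  rw [Finset.sum_const, Finset.card_univ, Fintype.card_units, hF]
  obtain ⟨j, hj⟩ : ∃ j, 2 ^ (2 * m + 1) - 1 = 2 * j + 1 := ⟨2 ^ (2 * m) - 1, by
    have := Nat.one_le_two_pow (n := 2 * m)
    rw [pow_succ]; omega⟩
  rw [hj, add_nsmul, mul_comm, mul_nsmul, two_nsmul, one_nsmul, h2, zero_add]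

/-- The lowest coordinate of an equivariant pairing of natural modules vanishes. -/
theorem form_eq_zero (hm : 1 ≤ m) (β : (Fin 4 → F) → (Fin 4 → F) → F)
    (hl : ∀ p q r, β (p + q) r = β p r + β q r) (hr : ∀ p q r, β p (q + r) = β p q + β p r)
    (hT : ∀ a b p q, β (szMat (tEl hF a b) *ᵥ p) (szMat (tEl hF a b) *ᵥ q) = β p q)
    (hD : ∀ (k : Fˣ) p q, β (szMat (dEl hF k) *ᵥ p) (szMat (dEl hF k) *ᵥ q) =
      ((k : F) ^ (2 ^ m + 1))⁻¹ * β p q)
    (hsum : ∀ a b p q, ∑ k : Fˣ, β (szMat (wEl hF * tEl hF a b * dEl hF k) *ᵥ p)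
      (szMat (wEl hF * tEl hF a b * dEl hF k) *ᵥ q) = 0) :
    ∀ p q, β p q = 0 := by
  classical
  have h2 := two_eq_zero hF
  have hn := neg_eq_self hF
  let c : Fin 4 → Fin 4 → F → F → F := fun i j x y => β (sv i x) (sv j y)
  have cdef : ∀ i j x y, β (sv i x) (sv j y) = c i j x y := fun _ _ _ _ => rfl
  have hl0 : ∀ r, β 0 r = 0 := fun r => by have := hl 0 0 r; simpa using this
  have hr0 : ∀ p, β p 0 = 0 := fun p => by have := hr p 0 0; simpa using this
  have cl0 : ∀ i j y, c i j 0 y = 0 := fun i j y => by simp [c, sv, hl0]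
  have cr0 : ∀ i j x, c i j x 0 = 0 := fun i j x => by simp [c, sv, hr0]
  have cadd : ∀ i j x x' y, c i j (x + x') y = c i j x y + c i j x' y := fun i j x x' y => by
    simp only [c, sv, Pi.single_add, hl]
  have e00 : ∀ x y, c 0 0 x y = 0 := fun x y => by
    have h := hT 1 0 (sv 1 x) (sv 0 y)
    rw [(tEl_sv hF 1 0 x).2.1, (tEl_sv hF 1 0 y).1] at h
    simpa [hl, hr, cdef, cl0, cr0] using h
  have e10 : ∀ x y, c 1 0 x y = 0 := fun x y => by
    have h := hT 1 0 (sv 2 x) (sv 0 y)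
    rw [(tEl_sv hF 1 0 x).2.2.1, (tEl_sv hF 1 0 y).1] at h
    simpa [hl, hr, cdef, cl0, cr0, e00] using h
  have e20 : ∀ x y, c 2 0 x y = 0 := fun x y => by
    have h := hT 1 0 (sv 3 x) (sv 0 y)
    rw [(tEl_sv hF 1 0 x).2.2.2, (tEl_sv hF 1 0 y).1] at h
    simpa [hl, hr, cdef, cl0, cr0, e00, e10] using h
  have e01 : ∀ x y, c 0 1 x y = 0 := fun x y => by
    have h := hT 1 0 (sv 0 x) (sv 2 y)
    rw [(tEl_sv hF 1 0 x).1, (tEl_sv hF 1 0 y).2.2.1] at h
    simpa [hl, hr, cdef, cl0, cr0, e00] using h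
  have e02 : ∀ x y, c 0 2 x y = 0 := fun x y => by
    have h := hT 1 0 (sv 0 x) (sv 3 y)
    rw [(tEl_sv hF 1 0 x).1, (tEl_sv hF 1 0 y).2.2.2] at h
    simpa [hl, hr, cdef, cl0, cr0, e00, e01] using h
  have e11 : ∀ x y, c 1 1 x y = 0 := fun x y => by
    have h := hT 1 0 (sv 2 x) (sv 1 y)
    rw [(tEl_sv hF 1 0 x).2.2.1, (tEl_sv hF 1 0 y).2.1] at h
    simpa [hl, hr, cdef, cl0, cr0, e00, e10, e01, e20] using h
  have i22 : ∀ a x y, c 1 2 (th m a * x) y = c 2 1 x (th m a * y) := fun a x y => by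
    have h := hT a 0 (sv 2 x) (sv 2 y)
    rw [(tEl_sv hF a 0 x).2.2.1, (tEl_sv hF a 0 y).2.2.1] at h
    simp [hl, hr, cdef, cl0, cr0, e00, e10, e01, e20, e02, e11] at h
    linear_combination h - c 2 1 x (th m a * y) * h2
  have i31 : ∀ a x y, c 3 0 x (a * y) = c 2 1 (a * x) y := fun a x y => by
    have h := hT a 0 (sv 3 x) (sv 1 y)
    rw [(tEl_sv hF a 0 x).2.2.2, (tEl_sv hF a 0 y).2.1] at h
    simp [hl, hr, cdef, cl0, cr0, e00, e10, e01, e20, e11] at h
    linear_combination h - c 2 1 (a * x) y * h2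
  have i13 : ∀ a x y, c 0 3 (a * x) y = c 1 2 x (a * y) := fun a x y => by
    have h := hT a 0 (sv 1 x) (sv 3 y)
    rw [(tEl_sv hF a 0 x).2.1, (tEl_sv hF a 0 y).2.2.2] at h
    simp [hl, hr, cdef, cl0, cr0, e00, e10, e01, e02, e11] at h
    linear_combination h - c 1 2 x (a * y) * h2
  have g30 : ∀ x y, c 3 0 x y = c 2 1 x y := fun x y => by simpa using i31 1 x y
  have g03 : ∀ x y, c 0 3 x y = c 1 2 x y := fun x y => by simpa using i13 1 x y
  have g12 : ∀ x y, c 1 2 x y = c 2 1 x y := fun x y => by simpa using i22 1 x y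
  have e21 : ∀ x y, c 2 1 x y = 0 := fun x y => by
    obtain ⟨k, hk⟩ := exists_ne_one hm hF
    set l := (k : F) ^ (2 ^ m + 1) with hl'
    have hl0' : l ≠ 0 := pow_ne_zero _ k.ne_zero
    have h := hD k (sv 3 x) (sv 0 y)
    have s0 : szMat (dEl hF k) *ᵥ sv 0 y = sv 0 (l * y) := by
      rw [szMat_dEl, dMat_mulVec]; funext i; fin_cases i <;> simp [sv, hl']
    have s3 : szMat (dEl hF k) *ᵥ sv 3 x = sv 3 (l⁻¹ * x) := by
      rw [szMat_dEl, dMat_mulVec]; funext i; fin_cases i <;> simp [sv, hl']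
    rw [s3, s0, cdef, cdef, ← hl', g30, g30] at h
    have h3 := i31 l (l⁻¹ * x) y
    rw [g30, show l * (l⁻¹ * x) = x by field_simp] at h3
    rw [h3] at h
    by_contra hne
    have h4 : l⁻¹ = 1 := mul_right_cancel₀ hne (by rw [one_mul]; exact h.symm)
    have h5 : (k ^ (2 ^ m + 1) : Fˣ) = 1 ^ (2 ^ m + 1) := Units.ext (by
      rw [Units.val_pow_eq_pow_val, one_pow, Units.val_one, ← hl']; exact inv_eq_one.mp h4)
    exact hk (by rw [(weight_bij hF).injective h5, Units.val_one])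
  have e12 : ∀ x y, c 1 2 x y = 0 := fun x y => (g12 x y).trans (e21 x y)
  have e30 : ∀ x y, c 3 0 x y = 0 := fun x y => (g30 x y).trans (e21 x y)
  have e03 : ∀ x y, c 0 3 x y = 0 := fun x y => (g03 x y).trans (e12 x y)
  have i32 : ∀ a x y, c 2 2 (a * x) y = c 3 1 x (th m a * y) := fun a x y => by
    have h := hT a 0 (sv 3 x) (sv 2 y)
    rw [(tEl_sv hF a 0 x).2.2.2, (tEl_sv hF a 0 y).2.2.1] at h
    simp [hl, hr, cdef, cl0, cr0, e00, e10, e01, e20, e02, e11, e12, e21, e30] at h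
    linear_combination h - c 3 1 x (th m a * y) * h2
  have i23 : ∀ a x y, c 2 2 x (a * y) = c 1 3 (th m a * x) y := fun a x y => by
    have h := hT a 0 (sv 2 x) (sv 3 y)
    rw [(tEl_sv hF a 0 x).2.2.1, (tEl_sv hF a 0 y).2.2.2] at h
    simp [hl, hr, cdef, cl0, cr0, e00, e10, e01, e20, e02, e11, e12, e21, e03] at h
    linear_combination h - c 1 3 (th m a * x) y * h2
  have g31 : ∀ x y, c 3 1 x y = c 2 2 x y := fun x y => by simpa using (i32 1 x y).symm
  have g13 : ∀ x y, c 1 3 x y = c 2 2 x y := fun x y => by simpa using (i23 1 x y).symm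
  have e22 : ∀ x y, c 2 2 x y = 0 := fun x y => by
    obtain ⟨a, ha0, ha1⟩ := exists_ne_zero_one hF hm
    have hu : a + a ^ 2 ≠ 0 := fun h => by
      have : a * (1 + a) = 0 := by linear_combination h
      rcases mul_eq_zero.1 this with h | h
      · exact ha0 h
      · exact ha1 ((add_eq_zero_iff hF).1 h).symm
    have key : ∀ z, c 2 2 ((a + a ^ 2) * z) y = 0 := fun z => by
      rw [add_mul, cadd]
      have h := i32 a z y
      rw [g31] at h
      have h' := i23 (th m a) z y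
      rw [g13, th_th hF] at h'
      rw [h, h']
      exact add_self_zero hF _
    have := key (x / (a + a ^ 2))
    rwa [mul_div_cancel₀ x hu] at this
  have e31 : ∀ x y, c 3 1 x y = 0 := fun x y => (g31 x y).trans (e22 x y)
  have e13 : ∀ x y, c 1 3 x y = 0 := fun x y => (g13 x y).trans (e22 x y)
  have i33 : ∀ a x y, c 2 3 (a * x) y = c 3 2 x (a * y) := fun a x y => by
    have h := hT a 0 (sv 3 x) (sv 3 y)
    rw [(tEl_sv hF a 0 x).2.2.2, (tEl_sv hF a 0 y).2.2.2] at h
    simp [hl, hr, cdef, cl0, cr0, e00, e10, e01, e20, e02, e11, e12, e21, e03, e30, e22, e13, e31] at h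
    linear_combination h - c 3 2 x (a * y) * h2
  have g23 : ∀ x y, c 2 3 x y = c 3 2 x y := fun x y => by simpa using i33 1 x y
  have d32 : ∀ r x y, c 3 2 (r * x) y = c 3 2 x (r * y) := fun r x y => by
    rw [← g23]; exact i33 r x y
  let β' : Fˣ ≃ Fˣ := Equiv.ofBijective _ (weight_bij (m := m) hF)
  have hw : ∀ a b y, ∑ r : Fˣ, c 3 3 (r : F) (oF m a b * ((r : F)⁻¹ * y)) + c 3 2 1 (b * y) = 0 := by
    intro a b y
    have h := hsum a b (sv 0 1) (sv 3 y)
    have hterm : ∀ k : Fˣ, β (szMat (wEl hF * tEl hF a b * dEl hF k) *ᵥ sv 0 1)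
        (szMat (wEl hF * tEl hF a b * dEl hF k) *ᵥ sv 3 y) =
        c 3 3 ((β' k : Fˣ) : F) (oF m a b * (((β' k : Fˣ) : F)⁻¹ * y)) + c 3 2 1 (b * y) := fun k => by
      have hk : ((β' k : Fˣ) : F) = (k : F) ^ (2 ^ m + 1) := by
        show ((k ^ (2 ^ m + 1) : Fˣ) : F) = _
        rw [Units.val_pow_eq_pow_val]
      set r := ((β' k : Fˣ) : F) with hr'
      have hrne : r ≠ 0 := (β' k).ne_zero
      have s0 : szMat (wEl hF * tEl hF a b * dEl hF k) *ᵥ sv 0 1 = sv 3 r := by
        rw [szMat_mul_mulVec, szMat_mul_mulVec, szMat_dEl, szMat_tEl, szMat_wEl, dMat_mulVec,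
          tMat_mulVec, form_mulVec]
        funext i; fin_cases i <;> simp [sv, hk]
      have s3 : szMat (wEl hF * tEl hF a b * dEl hF k) *ᵥ sv 3 y = sv 0 (r⁻¹ * y) +
          sv 1 (a * (r⁻¹ * y)) + sv 2 (b * (r⁻¹ * y)) + sv 3 (oF m a b * (r⁻¹ * y)) := by
        rw [szMat_mul_mulVec, szMat_mul_mulVec, szMat_dEl, szMat_tEl, szMat_wEl, dMat_mulVec,
          tMat_mulVec, form_mulVec]
        funext i; fin_cases i <;> simp [sv, hk]
      rw [s0, s3, hr, hr, hr, cdef, cdef, cdef, cdef, e30, e31, zero_add, zero_add, add_comm]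
      congr 1
      have := d32 r 1 (b * (r⁻¹ * y))
      rw [mul_one] at this
      rw [this]
      congr 1
      field_simp
    rw [Finset.sum_congr rfl (fun k _ => hterm k), Finset.sum_add_distrib,
      sum_units_self hF (add_self_zero hF)] at h
    rwa [Equiv.sum_comp β' (fun r : Fˣ => c 3 3 (r : F) (oF m a b * ((r : F)⁻¹ * y)))] at h
  have hZ : ∀ y, ∑ r : Fˣ, c 3 3 (r : F) ((r : F)⁻¹ * y) = 0 := fun y => by
    have := hw 1 0 y
    simpa [oF, cr0] using this
  have e32 : ∀ x y, c 3 2 x y = 0 := fun x y => by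
    have h1 : ∀ z, c 3 2 1 z = 0 := fun z => by
      have := hw 0 1 z
      simpa [oF, hZ] using this
    have := d32 x 1 y
    rw [mul_one] at this
    rw [this, h1]
  have e23 : ∀ x y, c 2 3 x y = 0 := fun x y => (g23 x y).trans (e32 x y)
  have e33 : ∀ x y, c 3 3 x y = 0 := by
    have hom : ∀ r x y, c 3 3 (r * x) (r * y) = r * c 3 3 x y := fun r x y => by
      rcases eq_or_ne r 0 with rfl | hr0'
      · simp [cl0]
      obtain ⟨k, hk⟩ := (weight_bij (m := m) hF).surjective (Units.mk0 r⁻¹ (inv_ne_zero hr0'))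
      have hk' : (k : F) ^ (2 ^ m + 1) = r⁻¹ := by simpa using congrArg Units.val hk
      have h := hD k (sv 3 x) (sv 3 y)
      have s3 : ∀ z, szMat (dEl hF k) *ᵥ sv 3 z = sv 3 (r * z) := fun z => by
        rw [szMat_dEl, dMat_mulVec]; funext i; fin_cases i <;> simp [sv, hk']
      rw [s3, s3, cdef, cdef, hk', inv_inv] at h
      exact h
    have craddr : ∀ x y y', c 3 3 x (y + y') = c 3 3 x y + c 3 3 x y' := fun x y y' => by
      simp only [c, sv, Pi.single_add, hr]
    have hsq : ∀ t, c 3 3 (t ^ 2) 1 = t * c 3 3 1 1 := by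
      intro t
      rcases eq_or_ne t 0 with rfl | ht0
      · simp [cl0]
      rcases eq_or_ne t 1 with rfl | ht1
      · simp
      have ht1' : t + 1 ≠ 0 := fun h => ht1 ((add_eq_zero_iff hF).1 h)
      have hA : c 3 3 (t * (t + 1)) (t + 1) = (t + 1) * c 3 3 t 1 := by
        rw [← hom (t + 1) t 1]; ring_nf
      have hB : c 3 3 (t * (t + 1)) t = t * c 3 3 (t + 1) 1 := by
        rw [← hom t (t + 1) 1]; ring_nf
      rw [craddr, hB, show t * (t + 1) = t ^ 2 + t by ring, cadd, cadd] at hA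
      linear_combination hA - t * c 3 3 1 1 * h2
    have hval : ∀ r : Fˣ, c 3 3 (r : F) ((r : F)⁻¹ * 1) = c 3 3 1 1 := fun r => by
      have h := hom (r : F)⁻¹ ((r : F) ^ 2) 1
      rw [hsq] at h
      rw [show (r : F)⁻¹ * (r : F) ^ 2 = r by field_simp] at h
      rw [h]
      field_simp
    have hc : c 3 3 1 1 = 0 := by
      have := hZ 1
      rwa [Finset.sum_congr rfl (fun r _ => hval r), sum_units_self hF (add_self_zero hF)] at this
    intro x y
    rcases eq_or_ne y 0 with rfl | hy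
    · exact cr0 3 3 x
    haveI := charTwo hF
    obtain ⟨t, ht⟩ := Finite.surjective_of_injective (fun a b h => sq_inj hF h : Function.Injective fun z : F => z ^ 2) (x / y)
    have h := hom y (x / y) 1
    rw [mul_one, mul_div_cancel₀ x hy, ← ht, hsq, hc, mul_zero, mul_zero] at h
    exact h
  intro p q
  have hp : ∀ v : Fin 4 → F, v = sv 0 (v 0) + sv 1 (v 1) + sv 2 (v 2) + sv 3 (v 3) := fun v => by
    funext i; fin_cases i <;> simp [sv]
  rw [hp p, hp q]
  simp only [hl, hr, cdef, e00, e01, e02, e03, e10, e11, e12, e13, e20, e21, e22, e23, e30, e31,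
    e32, e33, add_zero]

/-- An equivariant pairing of natural modules into the natural module is zero. -/
theorem natural_pairing_zero (hm : 1 ≤ m) (β : (Fin 4 → F) → (Fin 4 → F) → (Fin 4 → F))
    (hl : ∀ p q r, β (p + q) r = β p r + β q r) (hr : ∀ p q r, β p (q + r) = β p q + β p r)
    (he : ∀ (g : Cfsg.Sz F m) p q, β (szMat g *ᵥ p) (szMat g *ᵥ q) = szMat g *ᵥ β p q) :
    ∀ p q, β p q = 0 := by
  classical
  have h0 := form_eq_zero hF hm (fun p q => β p q 3)
    (fun p q r => by rw [hl]; rfl) (fun p q r => by rw [hr]; rfl)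
    (fun a b p q => by rw [he, szMat_tEl, tMat_mulVec]; simp)
    (fun k p q => by rw [he, szMat_dEl, dMat_mulVec]; simp)
    (fun a b p q => by
      set s := ∑ k : Fˣ, szMat (dEl (m := m) hF k) *ᵥ β p q with hs
      have hs0 : s = 0 := by
        obtain ⟨l, hl'⟩ := exists_ne_one hm hF
        refine dEl_fpf hF (fun h => hl' (by rw [h, Units.val_one]) : l ≠ 1) ?_
        rw [hs, Matrix.mulVec_sum]
        refine Fintype.sum_bijective (fun k => l * k) (Group.mulLeft_bijective l) _ _ fun k => ?_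
        rw [← szMat_dEl hF l, ← szMat_mul_mulVec, dEl_mul]
      have h1 : ∀ k : Fˣ, β (szMat (wEl hF * tEl hF a b * dEl hF k) *ᵥ p)
          (szMat (wEl hF * tEl hF a b * dEl hF k) *ᵥ q) =
          szMat (wEl hF * tEl hF a b) *ᵥ (szMat (dEl hF k) *ᵥ β p q) := fun k => by
        rw [he, szMat_mul_mulVec]
      simp only [h1]
      rw [← Finset.sum_apply, ← Matrix.mulVec_sum, ← hs, hs0, Matrix.mulVec_zero]
      rfl)
  intro p q
  refine eq_zero_of_low hF fun g => ?_
  rw [← he]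
  exact h0 _ _

/-- A group of exponent four whose squares are seen in the natural module cannot exist. -/
theorem no_square (hm : 1 ≤ m) {Q : Type*} [AddCommGroup Q] [Finite Q]
    (ρ : Cfsg.Sz F m →* AddMonoid.End Q) (hf : Fpf ρ) (π : Q →+ (Fin 4 → F))
    (hπ : ∀ g v, π (ρ g v) = szMat g *ᵥ π v) (hsurj : Function.Surjective π)
    (h4 : ∀ v : Q, v + v = 0 → π v = 0) : False := by
  classical
  obtain ⟨y, hy⟩ := hsurj (sv 3 1)
  obtain ⟨l₀, hl₀⟩ := exists_ne_one hm hF
  have hC : ∀ u : Q, ∑ k : Fˣ, ρ (dEl hF k) u = 0 := fun u => by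
    refine hf (dEl hF l₀) (fun e => hl₀ ?_) (odd_dEl hF l₀) _ ?_
    · rw [dHom_injective hF (e.trans (dEl_one hF).symm), Units.val_one]
    rw [map_sum]
    refine Fintype.sum_bijective (fun k => l₀ * k) (Group.mulLeft_bijective l₀) _ _ fun k => ?_
    rw [← act_comp, dEl_mul]
  let lam : Fˣ → F := fun k => th m (k : F) * k
  let e : Fˣ → Cfsg.Sz F m := fun k => tEl hF 0 (lam k)
  let G : Fˣ → Fˣ → Q := fun k l => ρ (e k * e l * dEl hF (k * l)) y
  have hde : ∀ l, e l * dEl hF l = dEl hF l * tEl hF 0 1 := fun l => by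
    rw [dEl_tEl]
    simp [e, lam]
  have hee : ∀ k l, e k * e l = tEl hF 0 (lam k + lam l) := fun k l => by
    simp only [e, tEl_mul, th_zero, zero_mul, add_zero]
  have inner : ∀ k, ∑ l, G k l = 0 := fun k => by
    have : ∀ l, G k l = ρ (e k) (ρ (dEl hF l) (ρ (tEl hF 0 1) (ρ (dEl hF k) y))) := fun l => by
      simp only [G, ← act_comp]
      congr 2
      rw [mul_comm k l, ← dEl_mul, ← mul_assoc (dEl hF l), ← hde, mul_assoc, mul_assoc]
    simp only [this, ← map_sum]
    rw [hC, map_zero]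
  have hsym : ∀ k l, G k l = G l k := fun k l => by
    simp only [G, hee, add_comm (lam k), mul_comm k]
  have hdiag : ∑ k, G k k = 0 := by
    have : ∀ k, G k k = ρ (dEl hF (k * k)) y := fun k => by
      simp only [G, hee, add_self_zero hF, tEl_zero, one_mul]
    simp only [this]
    rw [← hC y]
    refine Fintype.sum_bijective (fun k => k * k) ?_ _ _ fun k => rfl
    rw [← Finite.injective_iff_bijective]
    intro a b h
    exact Units.ext (sq_inj hF (by rw [sq, sq, ← Units.val_mul, ← Units.val_mul, show a * a = b * b from h]))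
  let o : Fˣ → ℕ := fun k => (Fintype.equivFin Fˣ k : ℕ)
  have ho : Function.Injective o := fun a b h =>
    (Fintype.equivFin Fˣ).injective (Fin.ext h)
  let P := (Finset.univ : Finset (Fˣ × Fˣ)).filter fun p => o p.1 < o p.2
  let T := ∑ p ∈ P, G p.1 p.2

  have hT2 : T + T = 0 := by
    have h := sum_split o ho (fun p => G p.1 p.2)
    rw [Fintype.sum_prod_type, Finset.sum_eq_zero (fun k _ => inner k), hdiag, add_zero] at h
    rw [h]
    congr 1
    exact Finset.sum_congr rfl fun p _ => hsym _ _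
  have hπT := congrFun (h4 T hT2) 0
  let u : Fˣ → F := fun k => (k : F) ^ (2 ^ m + 1)
  have hu : ∀ k, u k ≠ 0 := fun k => pow_ne_zero _ k.ne_zero
  have hlam : ∀ k, th m (lam k) = u k ^ 2 := fun k => by
    simp only [lam, u, th_mul, th_th hF]
    rw [th_eq_pow_twice]
    ring
  have hterm : ∀ k l, π (G k l) 0 = u k / u l + u l / u k := fun k l => by
    simp only [G, hee, hπ, hy, szMat_mul_mulVec]
    rw [szMat_dEl, szMat_tEl, dMat_mulVec, tMat_mulVec]
    simp [sv, oF, th_add hF, hlam]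
    simp only [u, mul_pow] at *
    field_simp
  simp only [T, map_sum, Finset.sum_apply, Pi.zero_apply, hterm, Finset.sum_add_distrib] at hπT
  have htot := sum_split o ho (fun p => u p.1 / u p.2)
  simp only [Prod.fst_swap, Prod.snd_swap] at htot
  rw [hπT, zero_add] at htot
  have hone : ∑ k : Fˣ, u k / u k = 1 := by
    simp only [div_self (hu _)]
    exact sum_units_self hF (add_self_zero hF) 1
  rw [hone, Fintype.sum_prod_type] at htot
  have hsum0 : ∑ k, u k = 0 := by
    have h : u l₀ * ∑ k, u k = ∑ k, u k := by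
      rw [Finset.mul_sum]
      refine Fintype.sum_bijective (fun k => l₀ * k) (Group.mulLeft_bijective l₀) _ _ fun k => ?_
      simp [u, mul_pow]
    by_contra hne
    have h5 : (l₀ ^ (2 ^ m + 1) : Fˣ) = 1 ^ (2 ^ m + 1) := Units.ext (by
      rw [Units.val_pow_eq_pow_val, one_pow, Units.val_one]
      exact mul_right_cancel₀ hne (by rw [one_mul]; exact h))
    exact hl₀ (by rw [(weight_bij hF).injective h5, Units.val_one])
  simp only [div_eq_mul_inv, ← Finset.mul_sum, ← Finset.sum_mul, hsum0, zero_mul] at htot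
  exact zero_ne_one htot

end H22.CN.Sz
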