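import Cfsg.Agent.H22.CN.Sz.Sections
import Cfsg.Agent.H22.CN.Sz.Pairing
import Cfsg.Agent.H35.Subnormal

/-!
A normal 2-subgroup with Suzuki quotient on which all elements of odd order act without fixed points
is elementary abelian.
-/

set_option autoImplicit false
set_option linter.unusedSectionVars false
set_option linter.style.haveILetI false

namespace H22.CN.Sz

open Subgroup Matrix
open scoped IsMulCommutative commutatorElement

universe u

variable {F : Type*} [Field F] [Fintype F] {m : ℕ}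

/-- A minimal normal subgroup between two given ones. -/
theorem exists_minimal_between {G : Type*} [Group G] [Finite G] (L Q : Subgroup G) [L.Normal]
    [Q.Normal] (hLQ : L ≤ Q) (hne : L ≠ Q) :
    ∃ U : Subgroup G, U.Normal ∧ L ≤ U ∧ U ≤ Q ∧ L ≠ U ∧
      ∀ K : Subgroup G, K.Normal → L ≤ K → K ≤ U → K = L ∨ K = U := by
  obtain ⟨U, ⟨hUn, hLU, hUQ, hneU⟩, hmin⟩ :=
    (Set.toFinite {U : Subgroup G | U.Normal ∧ L ≤ U ∧ U ≤ Q ∧ L ≠ U}).exists_minimal
      ⟨Q, inferInstance, hLQ, le_rfl, hne⟩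
  refine ⟨U, hUn, hLU, hUQ, hneU, fun K hKn hLK hKU => ?_⟩
  by_cases h : L = K
  · exact Or.inl h.symm
  · exact Or.inr (le_antisymm hKU (hmin ⟨hKn, hLK, hKU.trans hUQ, h⟩ hKU))

theorem zero_of_add {A : Type*} [AddGroup A] {G : Type*} [Group G] {U : Subgroup G} {π : U → A}
    (h : ∀ u v, π (u * v) = π u + π v) : π 1 = 0 := by
  have := h 1 1
  rwa [one_mul, eq_comm, add_eq_left] at this

/-- `Q` has exponent two. -/
theorem sq_eq_one (hm : 1 ≤ m) (hF : Fintype.card F = 2 ^ (2 * m + 1)) :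
    ∀ (N : ℕ) (G : Type u) [Group G] [Finite G] (Q : Subgroup G) [Q.Normal] (_ : IsPGroup 2 Q)
      (_ : G ⧸ Q ≃* Cfsg.Sz F m), OddFpf Q → Nat.card Q ≤ N → ∀ a ∈ Q, a * a = 1 := by
  classical
  intro N
  induction N with
  | zero =>
    intro G _ _ Q _ _ _ _ h
    have := Nat.card_pos (α := Q)
    omega
  | succ N ih =>
    intro G _ _ Q hQn hQ e hfpf hN
    haveI : Fact (Nat.Prime 2) := ⟨Nat.prime_two⟩
    by_cases hQ1 : Q = ⊥
    · intro a ha
      rw [hQ1, mem_bot] at ha
      simp [ha]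
    -- the central involutions
    let A : Subgroup G :=
      { carrier := {a | a ∈ Q ∧ (∀ q ∈ Q, q * a = a * q) ∧ a * a = 1}
        one_mem' := ⟨one_mem _, fun q _ => by simp, one_mul 1⟩
        mul_mem' := fun {a b} ha hb => ⟨mul_mem ha.1 hb.1,
          fun q hq => by rw [← mul_assoc, ha.2.1 q hq, mul_assoc, hb.2.1 q hq, mul_assoc],
          by rw [mul_assoc a, ← mul_assoc b, hb.2.1 a ha.1 |>.symm, mul_assoc a b b, hb.2.2, mul_one, ha.2.2]⟩
        inv_mem' := fun {a} ha => by
          rw [show a⁻¹ = a from inv_eq_of_mul_eq_one_right ha.2.2]; exact ha }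
    haveI : A.Normal := ⟨fun a ha g => ⟨hQn.conj_mem a ha.1 g, fun q hq => by
      have h := ha.2.1 (g⁻¹ * q * g) (by simpa using hQn.conj_mem q hq g⁻¹)
      calc q * (g * a * g⁻¹) = g * ((g⁻¹ * q * g) * a) * g⁻¹ := by group
        _ = g * (a * (g⁻¹ * q * g)) * g⁻¹ := by rw [h]
        _ = g * a * g⁻¹ * q := by group, by
      calc g * a * g⁻¹ * (g * a * g⁻¹) = g * (a * a) * g⁻¹ := by group
        _ = 1 := by rw [ha.2.2, mul_one, mul_inv_cancel]⟩⟩
    have hA1 : A ≠ ⊥ := by
      haveI : Nontrivial Q := (nontrivial_iff_ne_bot Q).mpr hQ1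
      haveI := hQ.center_nontrivial
      obtain ⟨n, hn, hcard⟩ := (hQ.to_subgroup (center Q)).nontrivial_iff_card.1 inferInstance
      obtain ⟨z, hz⟩ := exists_prime_orderOf_dvd_card' (G := center Q) 2
        (hcard ▸ dvd_pow_self 2 (Nat.pos_iff_ne_zero.1 hn))
      intro hbot
      have hzA : ((z : Q) : G) ∈ A := ⟨(z : Q).2,
        fun q hq => congrArg Subtype.val (mem_center_iff.mp z.2 ⟨q, hq⟩), by
          have := pow_orderOf_eq_one z
          rw [hz, pow_two] at this
          exact congrArg (fun w : center Q => ((w : Q) : G)) this⟩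
      rw [hbot, mem_bot] at hzA
      rw [show z = 1 from Subtype.ext (Subtype.ext hzA), orderOf_one] at hz
      omega
    obtain ⟨M, hMn, hM1, hMA, hMmin⟩ := H35.exists_minimal_normal_le A hA1
    haveI := hMn
    have hMQ : M ≤ Q := fun a ha => (hMA ha).1
    have hMc : ∀ a ∈ M, ∀ q ∈ Q, q * a = a * q := fun a ha => (hMA ha).2.1
    -- induction
    have hps : Function.Surjective (QuotientGroup.mk' M) := QuotientGroup.mk'_surjective M
    haveI : (Q.map (QuotientGroup.mk' M)).Normal := hQn.map _ hps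
    have hcard : Nat.card (Q.map (QuotientGroup.mk' M)) ≤ N := by
      have h1 : (Q.map (QuotientGroup.mk' M)).index = Q.index :=
        Subgroup.index_map_eq _ hps (by rw [QuotientGroup.ker_mk']; exact hMQ)
      have h2 := (Q.map (QuotientGroup.mk' M)).card_mul_index
      rw [h1, ← Subgroup.index_eq_card] at h2
      have h3 : Nat.card Q * Q.index = Nat.card M * (Nat.card (Q.map (QuotientGroup.mk' M)) * Q.index) := by
        rw [h2, Q.card_mul_index, M.card_mul_index]
      have h4 : 2 ≤ Nat.card M := by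
        haveI := (nontrivial_iff_ne_bot M).2 hM1
        exact Finite.one_lt_card
      have h5 : 0 < Q.index := Nat.pos_of_ne_zero Subgroup.index_ne_zero_of_finite
      have h6 : Nat.card Q = Nat.card M * Nat.card (Q.map (QuotientGroup.mk' M)) :=
        Nat.eq_of_mul_eq_mul_right h5 (by rw [h3]; ring)
      have h7 : 0 < Nat.card (Q.map (QuotientGroup.mk' M)) := Nat.card_pos
      nlinarith
    have hsqM : ∀ a ∈ Q, a * a ∈ M := fun a ha => by
      rw [← QuotientGroup.eq_one_iff]
      exact ih (G ⧸ M) (Q.map (QuotientGroup.mk' M)) (hQ.map _)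
        ((QuotientGroup.quotientQuotientEquivQuotient M Q hMQ).trans e)
        (oddFpf_map Q M hMQ hfpf) hcard _ ⟨a, ha, rfl⟩
    have hcomM : ∀ a ∈ Q, ∀ b ∈ Q, a * b * a⁻¹ * b⁻¹ ∈ M := fun a ha b hb => by
      rw [← QuotientGroup.eq_one_iff]
      have h : ∀ c ∈ Q, ((c : G) : G ⧸ M) * c = 1 := fun c hc => by
        rw [← QuotientGroup.mk_mul]; exact (QuotientGroup.eq_one_iff _).2 (hsqM c hc)
      have hi : ∀ c ∈ Q, ((c : G) : G ⧸ M)⁻¹ = c := fun c hc => inv_eq_of_mul_eq_one_right (h c hc)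
      rw [QuotientGroup.mk_mul, QuotientGroup.mk_mul, QuotientGroup.mk_mul, QuotientGroup.mk_inv,
        QuotientGroup.mk_inv, hi a ha, hi b hb]
      have := h (a * b) (mul_mem ha hb)
      rw [QuotientGroup.mk_mul] at this
      rwa [← mul_assoc] at this
    -- the bottom section
    obtain ⟨πM, hπMadd, hπMsurj, hπM0, hπMeq⟩ := exists_section_natural hm hF Q hfpf e ⊥ M bot_le hMQ
      hM1.symm (fun K hK _ hKM => hMmin K hK hKM) (fun a ha => mem_bot.2 (hMA ha).2.2)
      (fun q hq a ha => mem_bot.2 (by rw [hMc a ha q hq]; group))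
    have hπM1 := zero_of_add hπMadd
    have hπMinj : ∀ a, πM a = 0 → a = 1 := fun a ha => Subtype.ext (mem_bot.1 ((hπM0 a).1 ha))
    -- `Q` is abelian
    have hcomm : ∀ a ∈ Q, ∀ b ∈ Q, a * b = b * a := by
      let L := Q ⊓ centralizer (Q : Set G)
      by_contra hnc
      have hLne : L ≠ Q := fun h => hnc fun a ha b hb =>
        (mem_centralizer_iff.1 (h.symm.le ha).2 b hb).symm
      obtain ⟨U, hUn, hLU, hUQ, hneU, hminU⟩ := exists_minimal_between L Q inf_le_left hLne
      haveI := hUn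
      let R := Q ⊓ centralizer (U : Set G)
      have hRne : R ≠ Q := fun h => hneU (le_antisymm hLU fun u hu =>
        ⟨hUQ hu, mem_centralizer_iff.2 fun q hq =>
          (mem_centralizer_iff.1 (h.symm.le hq).2 u hu).symm⟩)
      obtain ⟨U', hU'n, hRU', hU'Q, hneU', hminU'⟩ := exists_minimal_between R Q inf_le_left hRne
      haveI := hU'n
      have hML : M ≤ L := fun a ha => ⟨hMQ ha, mem_centralizer_iff.2 (hMc a ha)⟩
      have hMR : M ≤ R := fun a ha => ⟨hMQ ha, mem_centralizer_iff.2 fun u hu => hMc a ha u (hUQ hu)⟩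
      obtain ⟨π₁, h1add, h1surj, h1zero, h1eq⟩ := exists_section_natural hm hF Q hfpf e L U hLU hUQ
        hneU hminU (fun u hu => hML (hsqM u (hUQ hu)))
        (fun q hq u hu => hML (hcomM q hq u (hUQ hu)))
      obtain ⟨π₂, h2add, h2surj, h2zero, h2eq⟩ := exists_section_natural hm hF Q hfpf e R U' hRU'
        hU'Q hneU' hminU' (fun u hu => hMR (hsqM u (hU'Q hu)))
        (fun q hq u hu => hMR (hcomM q hq u (hU'Q hu)))
      let C : U → U' → M := fun u u' =>
        ⟨(u : G) * u' * (u : G)⁻¹ * (u' : G)⁻¹, hcomM _ (hUQ u.2) _ (hU'Q u'.2)⟩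
      have hCl : ∀ u v w, C (u * v) w = C u w * C v w := fun u v w => by
        apply Subtype.ext
        show (u : G) * v * w * ((u : G) * v)⁻¹ * (w : G)⁻¹ = _
        calc (u : G) * v * w * ((u : G) * v)⁻¹ * (w : G)⁻¹
            = (u : G) * ((C v w : M) : G) * ((w : G) * (u : G)⁻¹ * (w : G)⁻¹) := by
              simp only [C]; group
          _ = ((C v w : M) : G) * (u : G) * ((w : G) * (u : G)⁻¹ * (w : G)⁻¹) := by
              rw [hMc _ (C v w).2 u (hUQ u.2)]
          _ = ((C v w : M) : G) * ((C u w : M) : G) := by simp only [C]; group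
          _ = ((C u w : M) : G) * ((C v w : M) : G) := (hMc _ (C v w).2 _ (hMQ (C u w).2)).symm
      have hCr : ∀ u w w', C u (w * w') = C u w * C u w' := fun u w w' => by
        apply Subtype.ext
        show (u : G) * ((w : G) * w') * (u : G)⁻¹ * ((w : G) * w')⁻¹ = _
        calc (u : G) * ((w : G) * w') * (u : G)⁻¹ * ((w : G) * w')⁻¹
            = ((C u w : M) : G) * ((w : G) * ((C u w' : M) : G) * (w : G)⁻¹) := by
              simp only [C]; group
          _ = ((C u w : M) : G) * ((C u w' : M) : G) := by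
              rw [hMc _ (C u w').2 w (hU'Q w.2), mul_inv_cancel_right]
      have hC1 : ∀ (u : U) w, (u : G) ∈ L → C u w = 1 := fun u w hu => by
        apply Subtype.ext
        show (u : G) * w * (u : G)⁻¹ * (w : G)⁻¹ = 1
        rw [← mem_centralizer_iff.1 hu.2 w (hU'Q w.2)]
        group
      have hC2 : ∀ (u : U) (w : U'), (w : G) ∈ R → C u w = 1 := fun u w hw => by
        apply Subtype.ext
        show (u : G) * w * (u : G)⁻¹ * (w : G)⁻¹ = 1
        rw [mem_centralizer_iff.1 hw.2 u u.2]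
        group
      have hind1 : ∀ u v, π₁ u = π₁ v → ∀ w, C u w = C v w := fun u v h w => by
        have h0 : π₁ (u * v⁻¹) = 0 := by
          have h' := h1add (u * v⁻¹) v
          rw [inv_mul_cancel_right, h] at h'
          exact add_eq_right.1 h'.symm
        have := hCl (u * v⁻¹) v w
        rwa [inv_mul_cancel_right, hC1 _ w ((h1zero _).1 h0), one_mul] at this
      have hind2 : ∀ w w', π₂ w = π₂ w' → ∀ u, C u w = C u w' := fun w w' h u => by
        have h0 : π₂ (w * w'⁻¹) = 0 := by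
          have h' := h2add (w * w'⁻¹) w'
          rw [inv_mul_cancel_right, h] at h'
          exact add_eq_right.1 h'.symm
        have := hCr u (w * w'⁻¹) w'
        rwa [inv_mul_cancel_right, hC2 u _ ((h2zero _).1 h0), one_mul] at this
      choose s₁ hs₁ using h1surj
      choose s₂ hs₂ using h2surj
      have hzero := natural_pairing_zero hF hm (fun p q => πM (C (s₁ p) (s₂ q)))
        (fun p q r => by
          rw [← hπMadd, ← hCl]
          exact congrArg πM (hind1 _ _ (by rw [h1add, hs₁, hs₁, hs₁]) _))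
        (fun p q r => by
          rw [← hπMadd, ← hCr]
          exact congrArg πM (hind2 _ _ (by rw [h2add, hs₂, hs₂, hs₂]) _))
        (fun g p q => by
          obtain ⟨g₀, hg₀⟩ := QuotientGroup.mk_surjective (e.symm g)
          have heg : e (g₀ : G ⧸ Q) = g := by rw [hg₀, e.apply_symm_apply]
          subst heg
          rw [← hπMeq,
            hind1 _ ⟨g₀ * (s₁ p : G) * g₀⁻¹, hUn.conj_mem _ (s₁ p).2 g₀⟩ (by rw [hs₁, h1eq, hs₁]),
            hind2 _ ⟨g₀ * (s₂ q : G) * g₀⁻¹, hU'n.conj_mem _ (s₂ q).2 g₀⟩ (by rw [hs₂, h2eq, hs₂])]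
          refine congrArg πM (Subtype.ext ?_)
          simp only [C]
          group)
      refine hneU' (le_antisymm hRU' fun w hw => ⟨hU'Q hw, mem_centralizer_iff.2 fun u hu => ?_⟩)
      have h := hπMinj _ (hzero (π₁ ⟨u, hu⟩) (π₂ ⟨w, hw⟩))
      rw [hind1 _ ⟨u, hu⟩ (hs₁ _), hind2 _ ⟨w, hw⟩ (hs₂ _)] at h
      have h' : u * w * u⁻¹ * w⁻¹ = 1 := congrArg Subtype.val h
      exact mul_inv_eq_iff_eq_mul.1 (mul_inv_eq_one.1 h')
    -- squares
    by_contra hsq
    push Not at hsq
    obtain ⟨a₀, ha₀, ha₀2⟩ := hsq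
    let S : Subgroup G :=
      { carrier := {b | ∃ a ∈ Q, a * a = b}
        one_mem' := ⟨1, one_mem _, one_mul 1⟩
        mul_mem' := by
          rintro _ _ ⟨a, ha, rfl⟩ ⟨b, hb, rfl⟩
          exact ⟨a * b, mul_mem ha hb, by
            rw [mul_assoc, ← mul_assoc b, hcomm b hb a ha]; simp only [mul_assoc]⟩
        inv_mem' := by
          rintro _ ⟨a, ha, rfl⟩
          exact ⟨a⁻¹, inv_mem ha, by group⟩ }
    haveI : S.Normal := ⟨fun b hb g => by
      obtain ⟨a, ha, rfl⟩ := hb
      exact ⟨g * a * g⁻¹, hQn.conj_mem a ha g, by group⟩⟩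
    have hSM : S ≤ M := by rintro _ ⟨a, ha, rfl⟩; exact hsqM a ha
    have hSeq : S = M := (hMmin S inferInstance hSM).resolve_left fun h =>
      ha₀2 (mem_bot.1 (h ▸ (⟨a₀, ha₀, rfl⟩ : a₀ * a₀ ∈ S)))
    haveI : IsMulCommutative Q := IsMulCommutative.of_comm fun a b =>
      Subtype.ext (hcomm a a.2 b b.2)
    let π : Additive Q →+ (Fin 4 → F) := AddMonoidHom.mk'
      (fun v => πM ⟨((Additive.toMul v : Q) : G) * ((Additive.toMul v : Q) : G),
        hsqM _ (Additive.toMul v).2⟩)
      (fun v w => by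
        rw [← hπMadd]
        refine congrArg πM (Subtype.ext ?_)
        simp only [toMul_add, Subgroup.coe_mul, MulMemClass.mk_mul_mk]
        rw [mul_assoc, ← mul_assoc ((Additive.toMul w : Q) : G),
          hcomm _ (Additive.toMul w).2 _ (Additive.toMul v).2]
        simp only [mul_assoc])
    refine no_square hF hm (sectAct Q Q hcomm e) (sectAct_fpf Q Q hcomm le_rfl e hfpf) π
      (fun g v => ?_) (fun p => ?_) (fun v hv => ?_)
    · obtain ⟨g₀, hg₀⟩ := QuotientGroup.mk_surjective (e.symm g)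
      have heg : e (g₀ : G ⧸ Q) = g := by rw [hg₀, e.apply_symm_apply]
      subst heg
      show πM _ = _ *ᵥ πM _
      rw [← hπMeq]
      refine congrArg πM (Subtype.ext ?_)
      show ((Additive.toMul (sectAct Q Q hcomm e (e g₀) v) : Q) : G) *
        ((Additive.toMul (sectAct Q Q hcomm e (e g₀) v) : Q) : G) = _
      rw [sectAct_apply]
      group
    · obtain ⟨⟨b, hb⟩, rfl⟩ := hπMsurj p
      obtain ⟨a, ha, rfl⟩ := hSeq.symm.le hb
      exact ⟨Additive.ofMul ⟨a, ha⟩, rfl⟩
    · have h1 : (Additive.toMul v : Q) * Additive.toMul v = 1 := congrArg Additive.toMul hv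
      have h2 : (⟨_, hsqM _ (Additive.toMul v).2⟩ : M) = 1 := Subtype.ext (congrArg (fun x : Q => (x : G)) h1)
      exact (congrArg πM h2).trans hπM1

end H22.CN.Sz
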