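import Cfsg.Agent.H22.CN.Sz.Twist

/-!
An irreducible module of exponent two for a Suzuki group with fixed-point-free elements of odd order
is isomorphic to the natural module.
-/

set_option autoImplicit false
set_option linter.unusedSectionVars false
set_option linter.style.haveILetI false

namespace H22.CN.Sz

open Matrix H57

variable {F : Type*} [Field F] [Fintype F] {m : ℕ} (hF : Fintype.card F = 2 ^ (2 * m + 1))
variable {V : Type*} [AddCommGroup V] [Finite V]

/-- All non-trivial elements of odd order are fixed-point-free. -/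
def Fpf {X : Type*} [Group X] (ρ : X →* AddMonoid.End V) : Prop :=
  ∀ g : X, g ≠ 1 → ¬ 2 ∣ orderOf g → ∀ v : V, ρ g v = v → v = 0

/-- The only invariant subgroups are the trivial ones. -/
def Irr {X : Type*} [Group X] (ρ : X →* AddMonoid.End V) : Prop :=
  ∀ U : AddSubgroup V, (∀ g, ∀ v ∈ U, ρ g v ∈ U) → U = ⊥ ∨ U = ⊤

theorem act_comp {X : Type*} [Group X] (ρ : X →* AddMonoid.End V) (g h : X) (v : V) :
    ρ (g * h) v = ρ g (ρ h v) := by rw [map_mul]; rfl

theorem act_id {X : Type*} [Group X] (ρ : X →* AddMonoid.End V) (v : V) : ρ 1 v = v := by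
  rw [map_one]; rfl

include hF

/-- A non-zero additive map to the field. -/
theorem exists_hom_ne_zero [Nontrivial V] (h2 : ∀ v : V, v + v = 0) :
    ∃ f : V →+ F, f ≠ 0 := by
  classical
  letI : Module (ZMod 2) V := AddCommGroup.zmodModule (fun v => by rw [two_nsmul, h2])
  obtain ⟨v, hv⟩ := exists_ne (0 : V)
  obtain ⟨φ, hφ⟩ := not_forall.1 (mt (Module.forall_dual_apply_eq_zero_iff (ZMod 2) v).1 hv)
  haveI := charTwo hF
  refine ⟨(ZMod.castHom (dvd_refl 2) F).toAddMonoidHom.comp φ.toAddMonoidHom, fun h => hφ ?_⟩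
  have := DFunLike.congr_fun h v
  exact (ZMod.castHom (dvd_refl 2) F).injective (this.trans (map_zero _).symm)

/-- An irreducible fixed-point-free module is the natural one. -/
theorem exists_natural_iso (hm : 1 ≤ m) [Nontrivial V] (h2 : ∀ v : V, v + v = 0)
    (ρ : Cfsg.Sz F m →* AddMonoid.End V) (hf : Fpf ρ) (hirr : Irr ρ) :
    ∃ e : V ≃+ (Fin 4 → F), ∀ g v, e (ρ g v) = szMat g *ᵥ e v := by
  classical
  haveI : Finite (V →+ F) := Finite.of_injective _ DFunLike.coe_injective
  let ρD : Cfsg.Sz F m →* Module.End F (V →+ F) :=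
    { toFun := fun g =>
        { toFun := fun f => f.comp (ρ g⁻¹)
          map_add' := fun f f' => rfl
          map_smul' := fun c f => rfl }
      map_one' := LinearMap.ext fun f => AddMonoidHom.ext fun v => by
        show f (ρ (1 : Cfsg.Sz F m)⁻¹ v) = f v
        rw [inv_one, act_id]
      map_mul' := fun g h => LinearMap.ext fun f => AddMonoidHom.ext fun v => by
        show f (ρ (g * h)⁻¹ v) = f (ρ h⁻¹ (ρ g⁻¹ v))
        rw [_root_.mul_inv_rev, act_comp] }
  have hρD : ∀ g (f : V →+ F) v, ρD g f v = f (ρ g⁻¹ v) := fun _ _ _ => rfl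
  have hfD : FpfLin ρD := by
    intro g hg1 hodd f hfix
    have hinj : Function.Injective (fun u => ρ g⁻¹ u - u) := by
      intro u v h
      refine sub_eq_zero.1 (hf g⁻¹ (by simpa using hg1) (by rwa [orderOf_inv]) _ ?_)
      rw [map_sub]
      simpa [sub_eq_sub_iff_sub_eq_sub] using h
    refine AddMonoidHom.ext fun u => ?_
    obtain ⟨v, rfl⟩ := Finite.surjective_of_injective hinj u
    have := DFunLike.congr_fun hfix v
    rw [hρD] at this
    rw [map_sub, this, sub_self]
    rfl
  obtain ⟨f0, hf0⟩ := exists_hom_ne_zero hF h2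
  obtain ⟨W, ⟨hWne, hWinv⟩, hWmin⟩ := Set.exists_min_image
    {U : Submodule F (V →+ F) | U ≠ ⊥ ∧ ∀ g, ∀ f ∈ U, ρD g f ∈ U} (fun U => Nat.card U)
    (Set.toFinite _) ⟨⊤, fun h => hf0 ((Submodule.eq_bot_iff _).1 h f0 Submodule.mem_top),
      fun _ _ _ => Submodule.mem_top⟩
  haveI : Nontrivial W := Submodule.nontrivial_iff_ne_bot.2 hWne
  let ρW : Cfsg.Sz F m →* Module.End F W :=
    { toFun := fun g => (ρD g).restrict (hWinv g)
      map_one' := LinearMap.ext fun f => Subtype.ext (lin_one ρD f)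
      map_mul' := fun g h => LinearMap.ext fun f => Subtype.ext (lin_mul ρD g h f) }
  have hfW : FpfLin (W := ↥W) ρW := by
    intro g hg ho f hfix
    refine Subtype.ext ?_
    exact hfD g hg ho f.1 (congrArg Subtype.val hfix)
  have hirrW : IrrLin (W := ↥W) ρW := by
    intro U hU
    by_contra hne
    push Not at hne
    have hUW : U.map W.subtype ≤ W := Submodule.map_subtype_le W U
    have h1 : Nat.card W ≤ Nat.card (U.map W.subtype) := hWmin _ ⟨fun h => hne.1
      (Submodule.map_injective_of_injective W.injective_subtype (h.trans (Submodule.map_bot _).symm)),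
      fun g f hf' => by
        obtain ⟨u, hu, rfl⟩ := hf'
        exact ⟨ρW g u, hU g u hu, rfl⟩⟩
    refine hne.2 (Submodule.map_injective_of_injective W.injective_subtype ?_)
    rw [Submodule.map_subtype_top]
    apply SetLike.coe_injective
    refine Set.eq_of_subset_of_ncard_le hUW ?_ (Set.toFinite _)
    rw [← Nat.card_coe_set_eq, ← Nat.card_coe_set_eq]
    exact h1
  obtain ⟨σ, Ψ, hinj, hsl, heq⟩ := exists_twist (W := ↥W) hF hm hfW hirrW
  have hsurj : Function.Surjective Ψ := by
    have h := natural_eq_top hF Ψ.range (fun h => by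
      obtain ⟨f, hf'⟩ := exists_ne (0 : W)
      exact hf' (hinj (by rw [map_zero]; exact AddSubgroup.mem_bot.1 (h ▸ ⟨f, rfl⟩))))
      (fun g p hp => by
        obtain ⟨f, rfl⟩ := hp
        exact ⟨ρW g f, heq g f⟩)
    intro p
    exact h.symm.le (AddSubgroup.mem_top p)
  let E : W ≃+ (Fin 4 → F) := AddEquiv.ofBijective Ψ ⟨hinj, hsurj⟩
  have hEsmul : ∀ (c : F) p, E.symm (c • p) = σ.symm c • E.symm p := fun c p => hinj (by
    rw [hsl, show ∀ q, Ψ (E.symm q) = q from fun q => E.apply_symm_apply q,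
      show Ψ (E.symm p) = p from E.apply_symm_apply p, RingEquiv.apply_symm_apply])
  let R : (Fin 4 → F) → V → F := fun p v => σ ((E.symm p : V →+ F) v)
  have hRp : ∀ (c : F) p v, R (c • p) v = c * R p v := fun c p v => by
    simp only [R, hEsmul, Submodule.coe_smul, AddMonoidHom.smul_apply, smul_eq_mul, map_mul,
      RingEquiv.apply_symm_apply]
  have hRadd : ∀ p p' v, R (p + p') v = R p v + R p' v := fun p p' v => by
    simp only [R, map_add, Submodule.coe_add, AddMonoidHom.add_apply]
  have hRv : ∀ p v v', R p (v + v') = R p v + R p v' := fun p v v' => by simp only [R, map_add]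
  let δ : Fin 4 → Fin 4 → F := fun i => Pi.single i 1
  let φ : V →+ (Fin 4 → F) := AddMonoidHom.mk'
    (fun v => ![R (δ 3) v, R (δ 2) v, R (δ 1) v, R (δ 0) v])
    (fun v v' => by funext i; fin_cases i <;> simp [hRv])
  have hform : ∀ p v, R p v = p ⬝ᵥ (Cfsg.suzukiForm F *ᵥ φ v) := fun p v => by
    have hp : p = p 0 • δ 0 + p 1 • δ 1 + p 2 • δ 2 + p 3 • δ 3 := by
      funext i; fin_cases i <;> simp [δ]
    conv_lhs => rw [hp]
    simp only [hRadd, hRp]
    simp [φ, form_mulVec, dotProduct, Fin.sum_univ_four]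
  have hRg : ∀ g p v, R p (ρ g v) = R (szMat g⁻¹ *ᵥ p) v := fun g p v => by
    simp only [R]
    congr 1
    have h1 : E.symm (szMat g⁻¹ *ᵥ p) = ρW g⁻¹ (E.symm p) := hinj (by
      rw [heq]
      exact (E.apply_symm_apply _).trans (by
        rw [show Ψ (E.symm p) = p from E.apply_symm_apply p]))
    rw [h1]
    show _ = ρD g⁻¹ (E.symm p : V →+ F) v
    rw [hρD, inv_inv]
  have hφ : ∀ g v, φ (ρ g v) = szMat g *ᵥ φ v := fun g v => by
    have key : ∀ p, p ⬝ᵥ (Cfsg.suzukiForm F *ᵥ φ (ρ g v)) =
        p ⬝ᵥ (Cfsg.suzukiForm F *ᵥ (szMat g *ᵥ φ v)) := fun p => by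
      rw [← hform, hRg, hform]
      have hg : (szMat g).transpose * Cfsg.suzukiForm F * szMat g = Cfsg.suzukiForm F :=
        sz_formOK hm hF g
      set M := szMat g
      set N := szMat g⁻¹ with hN
      have hMN : M * N = 1 := by rw [hN, ← map_mul, mul_inv_cancel, map_one]
      conv_lhs => rw [← hg]
      rw [← Matrix.mulVec_mulVec, ← Matrix.mulVec_mulVec, Matrix.dotProduct_mulVec,
        Matrix.vecMul_transpose, Matrix.mulVec_mulVec, hMN, Matrix.one_mulVec]
    funext i
    have := key (Pi.single (3 - i) 1)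
    rw [form_mulVec, form_mulVec] at this
    fin_cases i <;> simpa [single_dotProduct] using this
  have hφinj : Function.Injective φ := by
    rw [injective_iff_map_eq_zero]
    intro v hv
    rcases hirr φ.ker (fun g w hw => by
      rw [AddMonoidHom.mem_ker] at hw ⊢
      rw [hφ, hw, Matrix.mulVec_zero]) with h | h
    · exact AddSubgroup.mem_bot.1 (h ▸ (hv : v ∈ φ.ker))
    · exfalso
      obtain ⟨f, hf'⟩ := exists_ne (0 : W)
      refine hf' (Subtype.ext (AddMonoidHom.ext fun w => ?_))
      have hz : φ w = 0 := (h.symm ▸ AddSubgroup.mem_top w : w ∈ φ.ker)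
      have := hform (Ψ f) w
      rw [hz, Matrix.mulVec_zero, dotProduct_zero] at this
      simp only [R] at this
      rw [show E.symm (Ψ f) = f from E.symm_apply_apply f] at this
      exact σ.injective (this.trans (map_zero σ).symm)
  have hφsurj : Function.Surjective φ := by
    have h := natural_eq_top hF φ.range (fun h => by
      obtain ⟨v, hv⟩ := exists_ne (0 : V)
      exact hv (hφinj (by rw [map_zero]; exact AddSubgroup.mem_bot.1 (h ▸ ⟨v, rfl⟩))))
      (fun g p hp => by
        obtain ⟨v, rfl⟩ := hp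
        exact ⟨ρ g v, hφ g v⟩)
    intro p
    exact h.symm.le (AddSubgroup.mem_top p)
  exact ⟨AddEquiv.ofBijective φ ⟨hφinj, hφsurj⟩, hφ⟩

end H22.CN.Sz
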