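import Cfsg.Agent.H57.SzModule
import Cfsg.Agent.H57.SzTwo
import Cfsg.Agent.H57.SzForm

/-!
The natural module of a Suzuki group: coordinates along an orbit of the ovoid, an element of order
five, and irreducibility over the prime field.
-/

set_option autoImplicit false
set_option linter.unusedSectionVars false
set_option linter.style.haveILetI false

namespace H22.CN.Sz

open Matrix H57

variable {F : Type*} [Field F] [Fintype F] {m : ℕ} (hF : Fintype.card F = 2 ^ (2 * m + 1))

theorem szMat_tEl (a b : F) : szMat (tEl hF a b) = tMat m a b := rfl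

theorem szMat_dEl (k : Fˣ) : szMat (dEl hF k) = dMat m (k : F) := rfl

theorem szMat_wEl : szMat (m := m) (wEl hF) = Cfsg.suzukiForm F := rfl

theorem szMat_mul_mulVec (g h : Cfsg.Sz F m) (v : Fin 4 → F) :
    szMat (g * h) *ᵥ v = szMat g *ᵥ (szMat h *ᵥ v) := by
  rw [map_mul, Matrix.mulVec_mulVec]

/-- The vector spanning the point at infinity. -/
def e0 : Fin 4 → F := ![1, 0, 0, 0]

/-- The value of the lowest coordinate of `g` at the point at infinity. -/
def low (g : Cfsg.Sz F m) : F := (szMat g *ᵥ e0) 3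

/-- Fixed vectors of a 2-group on a non-trivial finite group of exponent two. -/
theorem exists_fixed {P : Type*} [Group P] [Finite P] (hP : IsPGroup 2 P) {V : Type*}
    [AddCommGroup V] [Finite V] [Nontrivial V] (h2 : ∀ v : V, v + v = 0)
    (act : P →* AddMonoid.End V) : ∃ v : V, v ≠ 0 ∧ ∀ s : P, act s v = v := by
  haveI : Fact (Nat.Prime 2) := ⟨Nat.prime_two⟩
  letI : MulAction P V :=
    { smul := fun s v => act s v
      one_smul := fun v => by show act 1 v = v; rw [map_one]; rfl
      mul_smul := fun s t v => by show act (s * t) v = act s (act t v); rw [map_mul]; rfl }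
  have hdvd : 2 ∣ Nat.card V := by
    obtain ⟨v, hv⟩ := exists_ne (0 : V)
    have : addOrderOf v = 2 := addOrderOf_eq_prime (by rw [two_nsmul, h2]) hv
    exact this ▸ addOrderOf_dvd_natCard v
  have h0 : (0 : V) ∈ MulAction.fixedPoints P V := fun s => map_zero (act s)
  obtain ⟨v, hv, hne⟩ := hP.exists_fixed_point_of_prime_dvd_card_of_fixed_point V hdvd h0
  exact ⟨v, hne.symm, hv⟩

include hF

theorem low_tEl_dEl (a b : F) (k : Fˣ) : low (tEl hF a b * dEl hF k) = 0 := by
  unfold low
  rw [szMat_mul_mulVec, szMat_tEl, szMat_dEl, dMat_mulVec, tMat_mulVec]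
  simp [e0]

theorem low_bruhat (a b c d : F) (k : Fˣ) :
    low (tEl hF a b * wEl hF * (tEl hF c d * dEl hF k)) = (k : F) ^ (2 ^ m + 1) := by
  unfold low
  rw [szMat_mul_mulVec, szMat_mul_mulVec, szMat_mul_mulVec, szMat_tEl, szMat_tEl, szMat_dEl,
    szMat_wEl, dMat_mulVec, tMat_mulVec, form_mulVec, tMat_mulVec]
  simp [e0]

/-- The torus weight is a bijection. -/
theorem weight_bij : Function.Bijective (fun k : Fˣ => (k ^ (2 ^ m + 1) : Fˣ)) := by
  rw [← Finite.injective_iff_bijective]
  intro a b h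
  have h' : (a * b⁻¹) ^ (2 ^ m + 1) = 1 := by
    rw [mul_pow, inv_pow, show a ^ (2 ^ m + 1) = b ^ (2 ^ m + 1) from h, mul_inv_cancel]
  by_contra hne
  have hk : a * b⁻¹ ≠ 1 := fun e => hne (mul_inv_eq_one.mp e)
  refine absurd (congrFun (dEl_fpf hF hk (v := e0) ?_) 0) (by simp [e0])
  have h0 : ((a * b⁻¹ : Fˣ) : F) ^ (2 ^ m + 1) = 1 := by
    rw [← Units.val_pow_eq_pow_val, h', Units.val_one]
  rw [dMat_mulVec]
  funext i
  fin_cases i <;> simp [e0, -Units.val_mul, h0]

/-- The element of order five in `Sz(2)`. -/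
def five : Cfsg.Sz F m := tEl hF 0 1 * wEl hF

theorem five_mulVec (v : Fin 4 → F) :
    szMat (five hF) *ᵥ v = ![v 3 + v 1 + v 0, v 2 + v 0, v 1, v 0] := by
  rw [five, szMat_mul_mulVec, szMat_tEl, szMat_wEl, form_mulVec, tMat_mulVec]
  funext i
  fin_cases i <;> simp [oF]

theorem five_ne_one : five (m := m) hF ≠ 1 := by
  intro h
  have := congrFun (five_mulVec hF (e0 (F := F))) 3
  rw [h, map_one, Matrix.one_mulVec] at this
  simp [e0] at this

theorem five_pow_five : five (m := m) hF ^ 5 = 1 := by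
  have h2 := two_eq_zero hF
  apply szMat_inj
  apply Matrix.toLin'.injective
  refine LinearMap.ext fun v => ?_
  simp only [Matrix.toLin'_apply, pow_succ, pow_zero, one_mul, szMat_mul_mulVec, five_mulVec,
    map_one, Matrix.one_mulVec]
  funext i
  fin_cases i <;> simp <;> grind

theorem five_orbit :
    szMat (five hF ^ 1) *ᵥ e0 = ![(1 : F), 1, 0, 1] ∧
    szMat (five hF ^ 2) *ᵥ e0 = ![(1 : F), 1, 1, 1] ∧
    szMat (five hF ^ 3) *ᵥ e0 = ![(1 : F), 0, 1, 1] ∧
    szMat (five hF ^ 4) *ᵥ e0 = ![(0 : F), 0, 0, 1] := by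
  have h2 := two_eq_zero hF
  refine ⟨?_, ?_, ?_, ?_⟩ <;>
    (simp only [pow_succ, pow_zero, one_mul, szMat_mul_mulVec, five_mulVec]
     funext i
     fin_cases i <;> simp [e0] <;> grind)

/-- A vector all whose translates have vanishing lowest coordinate is zero. -/
theorem eq_zero_of_low {p : Fin 4 → F} (h : ∀ g : Cfsg.Sz F m, (szMat g *ᵥ p) 3 = 0) : p = 0 := by
  have h1 : p 3 = 0 := by simpa using h 1
  have hu : ∀ a b : F, (p 0 + a * p 1 + (b + th m a * a) * p 2 + oF m a b * p 3) = 0 := fun a b => by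
    have := h (wEl hF * tEl hF a b)
    rw [szMat_mul_mulVec, szMat_tEl, szMat_wEl, tMat_mulVec, form_mulVec] at this
    simpa using this
  have h0 : p 0 = 0 := by simpa [oF, h1] using hu 0 0
  have h2 : p 2 = 0 := by simpa [oF, h1, h0] using hu 0 1
  have h3 : p 1 = 0 := by simpa [oF, h1, h0, h2] using hu 1 0
  funext i
  fin_cases i <;> assumption

/-- The vectors fixed by all `T(a,b)`. -/
theorem fixed_eq {p : Fin 4 → F} (h : ∀ a b : F, szMat (tEl hF a b) *ᵥ p = p) :
    p = p 0 • e0 := by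
  have h01 := h 0 1
  have h10 := h 1 0
  rw [szMat_tEl, tMat_mulVec] at h01 h10
  have a1 := congrFun h01 1
  have a2 := congrFun h10 1
  have a3 := congrFun h10 0
  simp [oF] at a1 a2 a3
  have b2 : p 2 = 0 := by simpa [a1] using a2
  have b1 : p 1 = 0 := by simpa [a1, b2] using a3
  funext i
  fin_cases i <;> simp [e0, a1, b1, b2]

/-- The natural module is irreducible over the prime field. -/
theorem natural_eq_top (U : AddSubgroup (Fin 4 → F)) (hU : U ≠ ⊥)
    (hinv : ∀ g : Cfsg.Sz F m, ∀ p ∈ U, szMat g *ᵥ p ∈ U) : U = ⊤ := by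
  haveI : Nontrivial U := (AddSubgroup.nontrivial_iff_ne_bot U).2 hU
  let act : tSub (m := m) hF →* AddMonoid.End U :=
    { toFun := fun s => AddMonoidHom.mk' (fun p => ⟨szMat (s : Cfsg.Sz F m) *ᵥ p, hinv _ _ p.2⟩)
        (fun p r => Subtype.ext (by
          show szMat (s : Cfsg.Sz F m) *ᵥ ((p : Fin 4 → F) + r) = _
          rw [Matrix.mulVec_add]; rfl))
      map_one' := AddMonoidHom.ext fun p => Subtype.ext (by
        show szMat ((1 : tSub (m := m) hF) : Cfsg.Sz F m) *ᵥ (p : Fin 4 → F) = p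
        rw [OneMemClass.coe_one, map_one, Matrix.one_mulVec])
      map_mul' := fun s t => AddMonoidHom.ext fun p => Subtype.ext (by
        show szMat (((s * t : tSub (m := m) hF)) : Cfsg.Sz F m) *ᵥ (p : Fin 4 → F) = _
        rw [Subgroup.coe_mul, szMat_mul_mulVec]; rfl) }
  obtain ⟨⟨p, hp⟩, hp0, hfix⟩ := exists_fixed (tSub_isPGroup hF) (V := U)
    (fun v => Subtype.ext (funext fun i => add_self_zero hF _)) act
  have hpe : p = p 0 • e0 := fixed_eq hF fun a b =>
    congrArg Subtype.val (hfix ⟨tEl hF a b, tEl_mem_tSub hF a b⟩)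
  have hc : p 0 ≠ 0 := fun hc => hp0 (Subtype.ext (by
    rw [hc, zero_smul] at hpe; simpa using hpe))
  have hE : ∀ c : F, ![c, 0, 0, 0] ∈ U := by
    intro c
    rcases eq_or_ne c 0 with rfl | hc0
    · convert zero_mem U using 1
      funext i; fin_cases i <;> simp
    · obtain ⟨k, hk⟩ := (weight_bij hF).surjective (Units.mk0 (c / p 0) (div_ne_zero hc0 hc))
      have h := hinv (dEl hF k) p hp
      rw [hpe, szMat_dEl, dMat_mulVec] at h
      have hk' : (k : F) ^ (2 ^ m + 1) = c / p 0 := by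
        simpa using congrArg Units.val hk
      convert h using 1
      funext i
      fin_cases i <;> simp [e0, hk', div_mul_cancel₀ c hc]
  have hE3 : ∀ c : F, ![0, 0, 0, c] ∈ U := fun c => by
    have h := hinv (wEl hF) _ (hE c)
    rw [szMat_wEl, form_mulVec] at h
    convert h using 1
    funext i; fin_cases i <;> simp
  have hP : ∀ a b c : F, ![oF m a b * c, b * c, a * c, 0] ∈ U := fun a b c => by
    have h := hinv (tEl hF a b) _ (hE3 c)
    rw [szMat_tEl, tMat_mulVec] at h
    convert sub_mem h (hE3 c) using 1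
    funext i; fin_cases i <;> simp
  have hE1 : ∀ c : F, ![0, c, 0, 0] ∈ U := fun c => by
    convert sub_mem (hP 0 1 c) (hE (oF m 0 1 * c)) using 1
    funext i; fin_cases i <;> simp
  have hE2 : ∀ c : F, ![0, 0, c, 0] ∈ U := fun c => by
    convert sub_mem (hP 1 0 c) (hE (oF m 1 0 * c)) using 1
    funext i; fin_cases i <;> simp
  rw [eq_top_iff]
  intro v _
  convert add_mem (add_mem (hE (v 0)) (hE1 (v 1))) (add_mem (hE2 (v 2)) (hE3 (v 3))) using 1
  funext i; fin_cases i <;> simp

end H22.CN.Sz
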