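import Cfsg.Agent.H22.CN.Sz.Weight

/-!
An irreducible fixed-point-free representation of a Suzuki group over its field is a Galois twist of
the natural one: the matrix coefficient of fixed eigenvectors is a field automorphism applied to the
lowest coordinate.
-/

set_option autoImplicit false
set_option linter.unusedSectionVars false
set_option linter.style.haveILetI false

namespace H22.CN.Sz

open Matrix H57

variable {F : Type*} [Field F] [Fintype F] {m : ℕ} (hF : Fintype.card F = 2 ^ (2 * m + 1))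
variable {W : Type*} [AddCommGroup W] [Module F W] [Finite W]

include hF

theorem th_surj : Function.Surjective (th m : F → F) :=
  Finite.surjective_of_injective fun _ _ h => th_inj hF h

theorem five_odd : ¬ 2 ∣ orderOf (five (m := m) hF) := by
  haveI : Fact (Nat.Prime 5) := ⟨by norm_num⟩
  rw [orderOf_eq_prime (five_pow_five hF) (five_ne_one hF)]
  norm_num

/-- Fixed functionals of the unipotent radical which are eigenvectors of the torus. -/
theorem exists_functional [Nontrivial W] {ρ : Cfsg.Sz F m →* Module.End F W} (hf : FpfLin ρ) :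
    ∃ (f : W →ₗ[F] F) (μ : Fˣ →* Fˣ), f ≠ 0 ∧ (∀ a b u, f (ρ (tEl hF a b) u) = f u) ∧
      ∀ k u, f (ρ (dEl hF k) u) = (μ k : F) * f u := by
  classical
  haveI : Finite (W →ₗ[F] F) := Finite.of_injective _ DFunLike.coe_injective
  haveI : Nontrivial (W →ₗ[F] F) := by
    obtain ⟨u, hu⟩ := exists_ne (0 : W)
    obtain ⟨g, hg⟩ := not_forall.1 (mt (Module.forall_dual_apply_eq_zero_iff F u).1 hu)
    exact ⟨⟨g, 0, fun h => hg (by rw [h]; rfl)⟩⟩
  let ρ' : Cfsg.Sz F m →* Module.End F (W →ₗ[F] F) :=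
    { toFun := fun g => (ρ g⁻¹).dualMap
      map_one' := LinearMap.ext fun f => LinearMap.ext fun u => by
        show f (ρ (1 : Cfsg.Sz F m)⁻¹ u) = f u
        rw [inv_one, lin_one]
      map_mul' := fun g h => LinearMap.ext fun f => LinearMap.ext fun u => by
        show f (ρ (g * h)⁻¹ u) = f (ρ h⁻¹ (ρ g⁻¹ u))
        rw [_root_.mul_inv_rev, lin_mul] }
  have hf' : FpfLin ρ' := by
    intro g hg1 hodd f hfix
    have hinj : Function.Injective (fun u => ρ g⁻¹ u - u) := by
      intro u v h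
      refine sub_eq_zero.1 (hf g⁻¹ (by simpa using hg1) (by rwa [orderOf_inv]) _ ?_)
      rw [map_sub]
      simpa [sub_eq_sub_iff_sub_eq_sub] using h
    refine LinearMap.ext fun u => ?_
    obtain ⟨v, rfl⟩ := Finite.surjective_of_injective hinj u
    have := LinearMap.congr_fun hfix v
    show f (ρ g⁻¹ v - v) = 0
    rw [map_sub, sub_eq_zero]
    exact this
  obtain ⟨f, χ, hf0, ht, hd, -⟩ := exists_eigen hF hf'
  refine ⟨f, χ.comp invMonoidHom, hf0, fun a b u => ?_, fun k u => ?_⟩
  · have := LinearMap.congr_fun (ht a (b + th m a * a)) u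
    change f (ρ (tEl hF a (b + th m a * a))⁻¹ u) = f u at this
    rwa [← tEl_inv, inv_inv] at this
  · have h := LinearMap.congr_fun (hd k⁻¹) u
    change f (ρ (dEl hF k⁻¹)⁻¹ u) = _ at h
    rw [← dHom_apply hF k⁻¹, ← map_inv, inv_inv, dHom_apply, LinearMap.smul_apply, smul_eq_mul] at h
    exact h

/-- An irreducible fixed-point-free representation is a twist of the natural one. -/
theorem exists_twist (hm : 1 ≤ m) [Nontrivial W] {ρ : Cfsg.Sz F m →* Module.End F W}
    (hf : FpfLin ρ) (hirr : IrrLin ρ) :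
    ∃ (σ : F ≃+* F) (Ψ : W →+ (Fin 4 → F)), Function.Injective Ψ ∧
      (∀ (c : F) (u : W), Ψ (c • u) = σ c • Ψ u) ∧
      ∀ (g : Cfsg.Sz F m) (u : W), Ψ (ρ g u) = szMat g *ᵥ Ψ u := by
  classical
  obtain ⟨v, χ, hv, ht, hd, hχ, hT⟩ := exists_eigen_killed hF hm hf
  obtain ⟨f, ν, hf0, hft, hfd⟩ := exists_functional hF hf
  set x0 := ρ (wEl hF) v with hx0
  have hwd : ∀ k, ρ (dEl hF k) x0 = (χ k⁻¹ : F) • x0 := fun k => by
    rw [hx0, ← lin_mul, show dEl (m := m) hF k * wEl hF = wEl hF * dEl hF k⁻¹ by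
      rw [← wEl_dEl hF k, ← mul_assoc, ← mul_assoc, wEl_mul_self, one_mul],
      lin_mul, hd, map_smul]
  have bigcell : ∀ a b c d k, ρ (tEl hF a b * wEl hF * (tEl hF c d * dEl hF k)) v =
      (χ k : F) • ρ (tEl hF a b) x0 := fun a b c d k => by
    rw [lin_mul, lin_mul (g := tEl hF c d), hd, map_smul, ht, map_smul, lin_mul, ← hx0]
  -- the orbit of `tEl * x0` spans
  let P : Submodule F W := Submodule.span F (Set.range fun p : F × F => ρ (tEl hF p.1 p.2) x0)
  have hxP : ∀ a b, ρ (tEl hF a b) x0 ∈ P := fun a b => Submodule.subset_span ⟨(a, b), rfl⟩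
  have hvP : v ∈ P := by
    have h := congrArg (ρ (wEl hF)) hT
    rw [tSum, map_sum, map_zero, ← Finset.add_sum_erase _ _ (Finset.mem_univ ((0 : F), (0 : F)))] at h
    have e0' : ρ (wEl hF) (ρ (tEl hF (0 : F) 0 * wEl hF) v) = v := by
      rw [← lin_mul, tEl_zero, one_mul, wEl_mul_self, lin_one]
    rw [e0'] at h
    rw [eq_neg_of_add_eq_zero_left h]
    refine P.neg_mem (P.sum_mem fun p hp => ?_)
    obtain ⟨x, y, c, d, k, e⟩ := exists_wtw hF hm (a := p.1) (b := p.2) (Finset.ne_of_mem_erase hp)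
    rw [← lin_mul, ← mul_assoc, e, bigcell]
    exact P.smul_mem _ (hxP x y)
  have horbit : ∀ g, ρ g v ∈ P := fun g => by
    rcases sz_cases hm hF g with ⟨a, b, k, rfl⟩ | ⟨a, b, c, d, k, rfl⟩
    · rw [lin_mul, hd, map_smul, ht]; exact P.smul_mem _ hvP
    · rw [bigcell]; exact P.smul_mem _ (hxP a b)
  have hspan : Submodule.span F (Set.range fun g => ρ g v) = ⊤ := by
    refine (hirr _ fun g u hu => ?_).resolve_left fun h => hv ?_
    · induction hu using Submodule.span_induction with
      | mem x hx =>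
        obtain ⟨h, rfl⟩ := hx
        exact Submodule.subset_span ⟨g * h, lin_mul ρ g h v⟩
      | zero => rw [map_zero]; exact Submodule.zero_mem _
      | add x y _ _ hx hy => rw [map_add]; exact Submodule.add_mem _ hx hy
      | smul c x _ hx => rw [map_smul]; exact Submodule.smul_mem _ c hx
    · exact (Submodule.eq_bot_iff _).1 h v (Submodule.subset_span ⟨1, lin_one ρ v⟩)
  set c0 := f x0 with hc0def
  have hc0 : c0 ≠ 0 := by
    intro h
    have hP0 : ∀ x ∈ P, f x = 0 := fun x hx => by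
      induction hx using Submodule.span_induction with
      | mem x hx => obtain ⟨p, rfl⟩ := hx; rw [hft, ← hc0def, h]
      | zero => simp
      | add x y _ _ hx hy => simp [hx, hy]
      | smul c x _ hx => simp [hx]
    exact hf0 (LinearMap.ext_on_range hspan fun g => hP0 _ (horbit g))
  have hν : ∀ k, (ν k : F) = (χ k⁻¹ : F) := fun k => by
    have := hfd k x0
    rw [hwd, map_smul, smul_eq_mul] at this
    exact (mul_right_cancel₀ hc0 this).symm
  have hfv : f v = 0 := by
    obtain ⟨k, hk⟩ := exists_ne_one hm hF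
    have h := hfd k v
    rw [hd, map_smul, smul_eq_mul, hν] at h
    by_contra hne
    have h3 : χ k = χ k⁻¹ := Units.ext (mul_right_cancel₀ hne h)
    have h4 : k * k = 1 := hχ _ (by rw [map_mul]; nth_rw 2 [h3]; rw [← map_mul, mul_inv_cancel, map_one])
    rcases Nat.prime_two.eq_one_or_self_of_dvd _ (orderOf_dvd_of_pow_eq_one (x := k) (n := 2) (by rw [sq]; exact h4)) with h6 | h6
    · exact hk (by rw [orderOf_eq_one_iff.1 h6, Units.val_one])
    · exact odd_units hF k (h6 ▸ dvd_rfl)
  let β : Fˣ ≃ Fˣ := Equiv.ofBijective _ (weight_bij (m := m) hF)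
  have hβ : ∀ k, ((β k : Fˣ) : F) = (k : F) ^ (2 ^ m + 1) := fun k => by
    show ((k ^ (2 ^ m + 1) : Fˣ) : F) = _
    rw [Units.val_pow_eq_pow_val]
  have hβmul : ∀ k l, β (k * l) = β k * β l := fun k l => mul_pow k l _
  let βe : Fˣ ≃* Fˣ := ⟨β, hβmul⟩
  let μ : F → F := fun r => if h : r = 0 then 0 else (χ (βe.symm (Units.mk0 r h)) : F)
  have μ0 : μ 0 = 0 := dif_pos rfl
  have μne : ∀ {r} (h : r ≠ 0), μ r = (χ (βe.symm (Units.mk0 r h)) : F) := fun h => dif_neg h
  have μpow : ∀ k : Fˣ, μ ((k : F) ^ (2 ^ m + 1)) = (χ k : F) := fun k => by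
    rw [μne (pow_ne_zero _ k.ne_zero), show Units.mk0 ((k : F) ^ (2 ^ m + 1)) _ = βe k from
      Units.ext (hβ k).symm, MulEquiv.symm_apply_apply]
  have μmul : ∀ r s, μ (r * s) = μ r * μ s := fun r s => by
    by_cases hr : r = 0
    · simp [hr, μ0]
    by_cases hs : s = 0
    · simp [hs, μ0]
    rw [μne (mul_ne_zero hr hs), μne hr, μne hs, Units.mk0_mul, map_mul, map_mul, Units.val_mul]
  have μ1 : μ 1 = 1 := by
    rw [μne one_ne_zero, Units.mk0_one, map_one, map_one, Units.val_one]
  have key : ∀ g, f (ρ g v) = μ (low g) * c0 := fun g => by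
    rcases sz_cases hm hF g with ⟨a, b, k, rfl⟩ | ⟨a, b, c, d, k, rfl⟩
    · rw [low_tEl_dEl, μ0, zero_mul, lin_mul, hd, map_smul, ht, map_smul, hfv, smul_zero]
    · rw [low_bruhat, μpow, bigcell, map_smul, hft, smul_eq_mul]
  -- the element of order five forces additivity
  have hsum : ∀ g, μ (low g) + μ (low (g * five hF ^ 1)) + μ (low (g * five hF ^ 2)) +
      μ (low (g * five hF ^ 3)) + μ (low (g * five hF ^ 4)) = 0 := by
    intro g
    set x := five (m := m) hF
    set s := v + ρ (x ^ 1) v + ρ (x ^ 2) v + ρ (x ^ 3) v + ρ (x ^ 4) v with hs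
    have hs0 : s = 0 := hf x (five_ne_one hF) (five_odd hF) s (by
      rw [hs, map_add, map_add, map_add, map_add, ← lin_mul, ← lin_mul, ← lin_mul, ← lin_mul,
        ← pow_succ', ← pow_succ', ← pow_succ', ← pow_succ', five_pow_five, lin_one]
      simp only [pow_one]
      abel)
    have := congrArg (fun u => f (ρ g u)) hs0
    simp only [hs, map_add, map_zero, ← lin_mul, key, ← add_mul] at this
    exact (mul_eq_zero.1 this).resolve_right hc0
  have hone : ∀ r, μ (1 + r) = 1 + μ r := by
    intro r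
    obtain ⟨b, rfl⟩ := th_surj (m := m) hF r
    have hg : ∀ y : Cfsg.Sz F m, low (wEl hF * tEl hF 0 b * y) =
        (szMat y *ᵥ e0) 0 + b * (szMat y *ᵥ e0) 2 + th m b * (szMat y *ᵥ e0) 3 := fun y => by
      unfold low
      rw [szMat_mul_mulVec, szMat_mul_mulVec, szMat_tEl, szMat_wEl, tMat_mulVec, form_mulVec]
      simp [oF]
    obtain ⟨o1, o2, o3, o4⟩ := five_orbit (m := m) hF
    have h := hsum (wEl hF * tEl hF 0 b)
    have h0 : low (wEl hF * tEl hF 0 b) = 1 := by
      rw [← mul_one (wEl hF * tEl hF 0 b), hg, map_one, Matrix.one_mulVec]; simp [e0]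
    rw [h0, hg, hg, hg, hg, o1, o2, o3, o4] at h
    simp at h
    rw [μ1] at h
    have h2 := two_eq_zero hF
    linear_combination h - (μ (1 + b + th m b) + μ (th m b) + 1) * h2
  have μadd : ∀ r s, μ (r + s) = μ r + μ s := fun r s => by
    by_cases hr : r = 0
    · simp [hr, μ0]
    rw [show r + s = r * (1 + s * r⁻¹) by field_simp, μmul, hone, mul_add, mul_one, ← μmul,
      show r * (s * r⁻¹) = s by field_simp]
  let μhom : F →+* F :=
    { toFun := μ, map_one' := μ1, map_mul' := μmul, map_zero' := μ0, map_add' := μadd }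
  let μe : F ≃+* F := RingEquiv.ofBijective μhom
    ⟨μhom.injective, Finite.surjective_of_injective μhom.injective⟩
  have hμe : ∀ r, μe r = μ r := fun _ => rfl
  let σ := μe.symm
  -- coordinates
  let co : Cfsg.Sz F m → W →+ F := fun g =>
    (σ.toAddMonoidHom.comp ((AddMonoidHom.mulLeft c0⁻¹).comp (f.toAddMonoidHom.comp
      (ρ g).toAddMonoidHom)))
  have hco : ∀ g u, co g u = σ (c0⁻¹ * f (ρ g u)) := fun _ _ => rfl
  have hcog : ∀ g h, co g (ρ h v) = low (g * h) := fun g h => by
    rw [hco, ← lin_mul, key, ← hμe, mul_comm (μe _), inv_mul_cancel_left₀ hc0]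
    exact μe.symm_apply_apply _
  let A := co (wEl hF)
  let B := co (wEl hF * tEl hF 0 1)
  let C := co (wEl hF * tEl hF 1 0)
  let D := co 1
  let Ψ : W →+ (Fin 4 → F) := AddMonoidHom.mk'
    (fun u => ![A u, C u - A u - (B u - A u - D u) - D u, B u - A u - D u, D u])
    (fun u u' => by funext i; fin_cases i <;> simp only [map_add, Pi.add_apply] <;> simp <;> ring)
  have hsm : ∀ g (c : F) u, co g (c • u) = σ c * co g u := fun g c u => by
    rw [hco, hco, map_smul, map_smul, smul_eq_mul, mul_left_comm, map_mul]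
  have hΨs : ∀ (c : F) u, Ψ (c • u) = σ c • Ψ u := fun c u => by
    funext i
    fin_cases i <;> simp [Ψ, A, B, C, D, hsm] <;> ring
  have hΨv : ∀ h, Ψ (ρ h v) = szMat h *ᵥ e0 := fun h => by
    funext i
    fin_cases i <;>
      simp [Ψ, A, B, C, D, hcog, low, map_mul, ← Matrix.mulVec_mulVec, szMat_tEl, szMat_wEl,
        tMat_mulVec, form_mulVec, oF] <;> ring
  have hΨ : ∀ u g, (szMat g *ᵥ Ψ u) 3 = co g u := by
    intro u
    have hu : u ∈ Submodule.span F (Set.range fun g => ρ g v) := hspan ▸ Submodule.mem_top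
    induction hu using Submodule.span_induction with
    | mem x hx =>
      obtain ⟨h, rfl⟩ := hx
      intro g
      rw [hΨv, hcog]
      unfold low
      rw [szMat_mul_mulVec]
    | zero => intro g; simp
    | add x y _ _ hx hy => intro g; rw [map_add, map_add, Matrix.mulVec_add, Pi.add_apply, hx, hy]
    | smul c x _ hx =>
      intro g
      rw [hΨs, hsm, Matrix.mulVec_smul, Pi.smul_apply, smul_eq_mul, hx]
  have hequiv : ∀ g u, Ψ (ρ g u) = szMat g *ᵥ Ψ u := fun g u => by
    refine sub_eq_zero.1 (eq_zero_of_low hF fun h => ?_)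
    rw [Matrix.mulVec_sub, Pi.sub_apply, hΨ, ← szMat_mul_mulVec, hΨ, hco, hco, lin_mul, sub_self]
  refine ⟨σ, Ψ, ?_, hΨs, hequiv⟩
  rw [injective_iff_map_eq_zero]
  let K : Submodule F W :=
    { carrier := {u | Ψ u = 0}
      add_mem' := fun {a b} ha hb => by
        show Ψ (a + b) = 0
        rw [map_add, show Ψ a = 0 from ha, show Ψ b = 0 from hb, add_zero]
      zero_mem' := map_zero Ψ
      smul_mem' := fun c u hu => by
        show Ψ (c • u) = 0
        rw [hΨs, show Ψ u = 0 from hu, smul_zero] }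
  intro u hu
  rcases hirr K (fun g u hu => by
    show Ψ (ρ g u) = 0
    rw [hequiv, show Ψ u = 0 from hu, Matrix.mulVec_zero]) with h | h
  · exact (Submodule.eq_bot_iff _).1 h u hu
  · have hvK : v ∈ K := h ▸ Submodule.mem_top
    have h0 : Ψ (ρ (1 : Cfsg.Sz F m) v) = 0 := by rw [lin_one]; exact hvK
    rw [hΨv, map_one, Matrix.one_mulVec] at h0
    exact absurd (congrFun h0 0) (by simp [e0])

end H22.CN.Sz
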