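import Cfsg.Agent.H22.CN.Sz.Natural

/-!
An irreducible representation of a Suzuki group over its field, with all non-trivial elements of odd
order fixed-point-free, is a Galois twist of the natural one.
-/

set_option autoImplicit false
set_option linter.unusedSectionVars false
set_option linter.style.haveILetI false

namespace H22.CN.Sz

open Matrix H57

variable {F : Type*} [Field F] [Fintype F] {m : ℕ} (hF : Fintype.card F = 2 ^ (2 * m + 1))
variable {W : Type*} [AddCommGroup W] [Module F W] [Finite W]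

/-- All non-trivial elements of odd order are fixed-point-free. -/
def FpfLin (ρ : Cfsg.Sz F m →* Module.End F W) : Prop :=
  ∀ g : Cfsg.Sz F m, g ≠ 1 → ¬ 2 ∣ orderOf g → ∀ u : W, ρ g u = u → u = 0

/-- The only invariant subspaces are the trivial ones. -/
def IrrLin (ρ : Cfsg.Sz F m →* Module.End F W) : Prop :=
  ∀ U : Submodule F W, (∀ g, ∀ u ∈ U, ρ g u ∈ U) → U = ⊥ ∨ U = ⊤

theorem lin_mul (ρ : Cfsg.Sz F m →* Module.End F W) (g h : Cfsg.Sz F m) (u : W) :
    ρ (g * h) u = ρ g (ρ h u) := by rw [map_mul]; rfl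

theorem lin_one (ρ : Cfsg.Sz F m →* Module.End F W) (u : W) : ρ 1 u = u := by
  rw [map_one]; rfl

include hF

theorem add_self_module (u : W) : u + u = 0 := by
  rw [← two_smul F u, two_eq_zero hF, zero_smul]

theorem odd_units (k : Fˣ) : ¬ 2 ∣ orderOf k := by
  intro h
  have h1 := h.trans (orderOf_dvd_natCard k)
  rw [Nat.card_units, Nat.card_eq_fintype_card, hF] at h1
  have h2 : 2 ∣ 2 ^ (2 * m + 1) := dvd_pow_self 2 (by omega)
  have h3 := Nat.one_le_two_pow (n := 2 * m + 1)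
  omega

theorem odd_dEl (k : Fˣ) : ¬ 2 ∣ orderOf (dEl (m := m) hF k) := fun h =>
  odd_units hF k (h.trans (orderOf_map_dvd (dHom (m := m) hF) k))

/-- A vector fixed by all `T(a,b)` which is an eigenvector of the torus. -/
theorem exists_eigen [Nontrivial W] {ρ : Cfsg.Sz F m →* Module.End F W} (hf : FpfLin ρ) :
    ∃ (v : W) (χ : Fˣ →* Fˣ), v ≠ 0 ∧ (∀ a b, ρ (tEl hF a b) v = v) ∧
      (∀ k, ρ (dEl hF k) v = (χ k : F) • v) ∧ ∀ k, χ k = 1 → k = 1 := by
  classical
  let U : Submodule F W :=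
    { carrier := {u | ∀ a b, ρ (tEl hF a b) u = u}
      add_mem' := fun {u v} hu hv a b => by rw [map_add, hu a b, hv a b]
      zero_mem' := fun a b => map_zero _
      smul_mem' := fun c u hu a b => by rw [map_smul, hu a b] }
  have hU : U ≠ ⊥ := by
    obtain ⟨v, hv, hfix⟩ := exists_fixed (tSub_isPGroup (m := m) hF) (add_self_module hF (W := W))
      (((⟨⟨fun f => f.toAddMonoidHom, rfl⟩, fun _ _ => rfl⟩ :
        Module.End F W →* AddMonoid.End W)).comp (ρ.comp (tSub (m := m) hF).subtype))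
    intro h
    exact hv ((Submodule.eq_bot_iff _).1 h v fun a b => hfix ⟨tEl hF a b, tEl_mem_tSub hF a b⟩)
  have hinv : ∀ k, ∀ u ∈ U, ρ (dEl hF k) u ∈ U := by
    intro k u hu a b
    obtain ⟨a', b', e⟩ : ∃ a' b', tEl hF a b * dEl hF k = dEl hF k * tEl hF a' b' := by
      refine ⟨(k : F)⁻¹ * a, (th m (k : F) * k)⁻¹ * b, ?_⟩
      rw [dEl_tEl, ← mul_assoc, mul_inv_cancel₀ k.ne_zero, one_mul, ← mul_assoc,
        mul_inv_cancel₀ (mul_ne_zero (mt th_eq_zero.mp k.ne_zero) k.ne_zero), one_mul]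
    rw [← lin_mul, e, lin_mul, hu]
  obtain ⟨k0, hk0⟩ := IsCyclic.exists_generator (α := Fˣ)
  haveI : Nontrivial U := Submodule.nontrivial_iff_ne_bot.2 hU
  set D : Module.End F U := (ρ (dEl hF k0)).restrict (hinv k0) with hD
  have hpow : D ^ Fintype.card F = D := by
    have hk : dEl (m := m) hF k0 ^ Fintype.card F = dEl hF k0 := by
      rw [← dHom_apply, ← map_pow]
      congr 1
      exact Units.ext (by rw [Units.val_pow_eq_pow_val, FiniteField.pow_card])
    refine LinearMap.ext fun u => Subtype.ext ?_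
    rw [hD, Module.End.pow_restrict]
    show (ρ (dEl hF k0) ^ Fintype.card F) (u : W) = ρ (dEl hF k0) (u : W)
    rw [← map_pow, hk]
  obtain ⟨c, hc⟩ : ∃ c : F, D.HasEigenvalue c := by
    have hdvd : minpoly F D ∣ Polynomial.X ^ Fintype.card F - Polynomial.X :=
      minpoly.dvd F D (by simp [hpow])
    have hne : (Polynomial.X ^ Fintype.card F - Polynomial.X : Polynomial F) ≠ 0 :=
      FiniteField.X_pow_card_sub_X_ne_zero F Fintype.one_lt_card
    have hs : (minpoly F D).Splits :=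
      Polynomial.Splits.of_dvd (Polynomial.splits_iff_card_roots.2 (by
        rw [FiniteField.roots_X_pow_card_sub_X,
          FiniteField.X_pow_card_sub_X_natDegree_eq F Fintype.one_lt_card]
        rfl)) hne hdvd
    obtain ⟨c, hc⟩ := hs.exists_eval_eq_zero
      (minpoly.degree_pos (Algebra.IsIntegral.isIntegral D)).ne'
    exact ⟨c, Module.End.hasEigenvalue_iff_isRoot.2 hc⟩
  obtain ⟨v0, hv0⟩ := hc.exists_hasEigenvector
  have hv : ρ (dEl hF k0) (v0 : W) = c • (v0 : W) := congrArg Subtype.val hv0.apply_eq_smul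
  have hne : (v0 : W) ≠ 0 := fun h => hv0.2 (Subtype.ext h)
  have hex : ∀ k : Fˣ, ∃ e : F, ρ (dEl hF k) (v0 : W) = e • (v0 : W) := by
    intro k
    obtain ⟨n, rfl⟩ := (mem_powers_iff_mem_zpowers.2 (hk0 k) : k ∈ Submonoid.powers k0)
    show ∃ e : F, ρ (dEl hF (k0 ^ n)) (v0 : W) = e • (v0 : W)
    induction n with
    | zero => exact ⟨1, by rw [pow_zero, dEl_one, lin_one, one_smul]⟩
    | succ n ih =>
      obtain ⟨e, he⟩ := ih
      exact ⟨c * e, by rw [pow_succ, ← dEl_mul, lin_mul, hv, map_smul, he, smul_smul]⟩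
  choose χ hχ using hex
  have inj : ∀ {x y : F}, x • (v0 : W) = y • (v0 : W) → x = y := fun h =>
    smul_left_injective F hne h
  have hone : χ 1 = 1 := inj (by rw [← hχ, dEl_one, lin_one, one_smul])
  have hmul : ∀ k l, χ (k * l) = χ k * χ l := fun k l => inj (by
    rw [← hχ, ← dEl_mul, lin_mul, hχ, map_smul, hχ, smul_smul, mul_comm])
  let χ' : Fˣ →* Fˣ := MonoidHom.toHomUnits
    { toFun := χ, map_one' := hone, map_mul' := hmul }
  refine ⟨v0, χ', hne, fun a b => v0.2 a b, hχ, fun k hk => ?_⟩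
  by_contra hk1
  refine hne (hf (dEl hF k) (fun e => hk1 (dHom_injective hF (e.trans (dEl_one hF).symm)))
    (odd_dEl hF k) _ ?_)
  rw [hχ]
  have : χ k = 1 := congrArg Units.val hk
  rw [this, one_smul]

/-- The sum of the translates under the unipotent radical of the image by the Weyl element. -/
def tSum (ρ : Cfsg.Sz F m →* Module.End F W) (v : W) : W :=
  ∑ p : F × F, ρ (tEl hF p.1 p.2 * wEl hF) v

theorem tSum_fixed (ρ : Cfsg.Sz F m →* Module.End F W) (v : W) (a b : F) :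
    ρ (tEl hF a b) (tSum hF ρ v) = tSum hF ρ v := by
  unfold tSum
  rw [map_sum]
  refine Fintype.sum_bijective (fun p : F × F => (a + p.1, b + p.2 + th m a * p.1)) ?_ _ _ ?_
  · rw [← Finite.injective_iff_bijective]
    rintro ⟨x, y⟩ ⟨x', y'⟩ h
    simp only [Prod.mk.injEq, add_right_inj] at h
    obtain ⟨rfl, h2⟩ := h
    simp_all
  · intro p
    rw [← lin_mul, ← mul_assoc, tEl_mul]

theorem tSum_dEl (ρ : Cfsg.Sz F m →* Module.End F W) (v : W) (χ : Fˣ →* Fˣ)
    (hd : ∀ k, ρ (dEl hF k) v = (χ k : F) • v) (k : Fˣ) :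
    ρ (dEl hF k) (tSum hF ρ v) = (χ k⁻¹ : F) • tSum hF ρ v := by
  unfold tSum
  rw [map_sum, Finset.smul_sum]
  refine Fintype.sum_bijective (fun p : F × F => ((k : F) * p.1, th m (k : F) * k * p.2)) ?_ _ _ ?_
  · rw [← Finite.injective_iff_bijective]
    rintro ⟨x, y⟩ ⟨x', y'⟩ h
    simp [k.ne_zero, th_eq_zero] at h
    obtain ⟨rfl, h2⟩ := h
    simp_all
  · intro p
    have e : dEl hF k * (tEl hF p.1 p.2 * wEl hF) =
        tEl hF ((k : F) * p.1) (th m (k : F) * k * p.2) * wEl hF * dEl hF k⁻¹ := by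
      rw [← mul_assoc, dEl_tEl, ← wEl_dEl hF k]
      simp only [← mul_assoc]
      rw [mul_assoc _ (wEl hF) (wEl hF), wEl_mul_self, mul_one]
    rw [← lin_mul, e, lin_mul, hd, map_smul]

/-- `w T w` lies in the big cell for `T ≠ 1`. -/
theorem exists_wtw (hm : 1 ≤ m) {a b : F} (h : (a, b) ≠ (0, 0)) :
    ∃ x y c d k, wEl hF * tEl hF a b * wEl hF =
      tEl hF x y * wEl hF * (tEl hF c d * dEl hF k) := by
  rcases sz_cases hm hF (wEl hF * tEl hF a b * wEl hF) with ⟨x, y, k, e⟩ | h'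
  · exfalso
    have h1 := congrArg (fun g : Cfsg.Sz F m => g • Cfsg.suzukiPointInfinity F) e
    simp only [mul_smul, dEl_infty, tEl_infty, wEl_infty, tEl_ovPt_zero] at h1
    rw [← wEl_ovPt_zero hF] at h1
    exact h (by obtain ⟨h3, h4⟩ := ovPt_inj (MulAction.injective _ h1); simp_all)
  · exact h'

/-- A fixed eigenvector annihilated by `tSum`. -/
theorem exists_eigen_killed [Nontrivial W] (hm : 1 ≤ m) {ρ : Cfsg.Sz F m →* Module.End F W}
    (hf : FpfLin ρ) :
    ∃ (v : W) (χ : Fˣ →* Fˣ), v ≠ 0 ∧ (∀ a b, ρ (tEl hF a b) v = v) ∧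
      (∀ k, ρ (dEl hF k) v = (χ k : F) • v) ∧ (∀ k, χ k = 1 → k = 1) ∧ tSum hF ρ v = 0 := by
  classical
  obtain ⟨v, χ, hv, ht, hd, hχ⟩ := exists_eigen hF hf
  by_cases h0 : tSum hF ρ v = 0
  · exact ⟨v, χ, hv, ht, hd, hχ, h0⟩
  set u := tSum hF ρ v with hu
  have hud := tSum_dEl hF ρ v χ hd
  refine ⟨u, χ.comp invMonoidHom, h0, tSum_fixed hF ρ v, hud, fun k hk => inv_eq_one.1 (hχ _ hk), ?_⟩
  have hsum : ∀ p : F × F, ∃ e : F, tSum hF ρ (ρ (tEl hF p.1 p.2 * wEl hF) v) = e • u := by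
    rintro ⟨a, b⟩
    by_cases h : (a, b) = ((0 : F), (0 : F))
    · obtain ⟨rfl, rfl⟩ := Prod.mk.injEq _ _ _ _ ▸ h
      refine ⟨0, ?_⟩
      unfold tSum
      rw [zero_smul]
      have : ∀ q : F × F, ρ (tEl hF q.1 q.2 * wEl hF) (ρ (tEl hF 0 0 * wEl hF) v) = v := fun q => by
        rw [← lin_mul, tEl_zero, one_mul, mul_assoc, wEl_mul_self, mul_one, ht]
      simp only [this, Finset.sum_const, Finset.card_univ, Fintype.card_prod, hF]
      rw [← Nat.cast_smul_eq_nsmul F]
      simp [two_eq_zero hF]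
    · obtain ⟨x, y, c, d, k, e⟩ := exists_wtw hF hm h
      refine ⟨(χ k : F), ?_⟩
      conv_lhs => unfold tSum
      have : ∀ q : F × F, ρ (tEl hF q.1 q.2 * wEl hF) (ρ (tEl hF a b * wEl hF) v) =
          (χ k : F) • ρ (tEl hF q.1 q.2) (ρ (tEl hF x y * wEl hF) v) := fun q => by
        rw [← lin_mul, mul_assoc, ← mul_assoc (wEl hF), e, lin_mul, lin_mul (g := tEl hF x y * wEl hF),
          lin_mul (g := tEl hF c d), hd, map_smul, ht, map_smul, map_smul]
      simp only [this, ← Finset.smul_sum]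
      congr 1
      rw [hu]
      unfold tSum
      refine Fintype.sum_bijective (fun q : F × F => (q.1 + x, q.2 + y + th m q.1 * x)) ?_ _ _ ?_
      · rw [← Finite.injective_iff_bijective]
        rintro ⟨x1, y1⟩ ⟨x2, y2⟩ h
        simp only [Prod.mk.injEq, add_left_inj] at h
        obtain ⟨rfl, h2⟩ := h
        simp_all
      · intro q
        rw [← lin_mul, ← mul_assoc, tEl_mul]
  choose e he using hsum
  have hlin : ∀ (g : F × F → W), tSum hF ρ (∑ p, g p) = ∑ p, tSum hF ρ (g p) := fun g => by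
    unfold tSum
    simp only [map_sum]
    exact Finset.sum_comm
  have htt : tSum hF ρ u = (∑ p, e p) • u := by
    rw [hu]
    conv_lhs => arg 3; unfold tSum
    rw [hlin, Finset.sum_congr rfl (fun p _ => he p), ← Finset.sum_smul]
  by_contra hne
  obtain ⟨k, hk⟩ := exists_ne_one hm hF
  have h1 := tSum_dEl hF ρ u (χ.comp invMonoidHom) hud k
  rw [htt, map_smul, hud, smul_smul] at h1
  simp only [MonoidHom.comp_apply, invMonoidHom_apply, inv_inv, smul_smul] at h1
  refine hne (htt.trans ?_)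
  by_contra hne'
  have hκ : (∑ p, e p) ≠ 0 := fun h => hne' (by rw [h, zero_smul])
  have h2 := smul_left_injective F h0 h1
  simp only [mul_comm ((χ k : Fˣ) : F)] at h2
  have h3 : χ k⁻¹ = χ k := Units.ext (mul_left_cancel₀ hκ h2)
  have h4 : k⁻¹ = k := by
    have : k⁻¹ * k⁻¹ = 1 := hχ _ (by rw [map_mul]; nth_rw 2 [h3]; rw [← map_mul, inv_mul_cancel, map_one])
    exact inv_eq_of_mul_eq_one_right (by simpa using congrArg (·⁻¹) this)
  have h5 : k ^ 2 = 1 := by rw [sq]; exact inv_eq_iff_mul_eq_one.mp h4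
  rcases (Nat.prime_two.eq_one_or_self_of_dvd _ (orderOf_dvd_of_pow_eq_one h5)) with h6 | h6
  · exact hk (by rw [orderOf_eq_one_iff.1 h6, Units.val_one])
  · exact odd_units hF k (h6 ▸ dvd_rfl)

end H22.CN.Sz
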